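import Cfsg.Agent.S4201
import Cfsg.Agent.Lib.Solvable.Core
import Cfsg.Agent.Lib.Solvable.Basic
import Mathlib.GroupTheory.ClassEquation

/-!
# Elementary bounds for class numbers used in `k(B) ≤ 3 ^ (d - 1) * p ^ d`
-/

set_option autoImplicit false
set_option linter.style.haveILetI false

namespace CfsgLib.SolvBlock

open Cfsg
open scoped Classical

universe u

/-- The bound `3 ^ (d - 1) * p ^ d`. -/
def bd (p d : ℕ) : ℕ := 3 ^ (d - 1) * p ^ d

theorem one_le_bd {p : ℕ} (hp : 1 ≤ p) (d : ℕ) : 1 ≤ bd p d :=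
  Nat.mul_pos (Nat.pow_pos (by norm_num)) (Nat.pow_pos hp)

theorem bd_mono {p : ℕ} (hp : 1 ≤ p) {a b : ℕ} (h : a ≤ b) : bd p a ≤ bd p b :=
  Nat.mul_le_mul (Nat.pow_le_pow_right (by norm_num) (by omega)) (Nat.pow_le_pow_right hp h)

theorem bd_mul_le {p : ℕ} (a b : ℕ) : bd p a * bd p b ≤ bd p (a + b) := by
  unfold bd
  rw [mul_mul_mul_comm, ← pow_add, ← pow_add]
  exact Nat.mul_le_mul_right _ (Nat.pow_le_pow_right (by norm_num) (by omega))

/-- The hypothesis of the induction. -/
def BdBelow (n : ℕ) : Prop :=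
  ∀ (Y : Type u) [Group Y] [Finite Y], Group.IsSolvable Y → Nat.card Y ≤ n →
    ∀ (p : ℕ) [Fact p.Prime], pPrimeCore p Y = ⊥ →
      Nat.card (ConjClasses Y) ≤ bd p ((Nat.card Y).factorization p)

theorem classNum_le_card (G : Type*) [Group G] [Finite G] : Nat.card (ConjClasses G) ≤ Nat.card G :=
  Nat.card_le_card_of_surjective _ ConjClasses.mk_surjective

theorem classNum_equiv {G H : Type*} [Group G] [Group H] (e : G ≃* H) :
    Nat.card (ConjClasses G) = Nat.card (ConjClasses H) := by
  refine Nat.card_congr ⟨ConjClasses.map e.toMonoidHom, ConjClasses.map e.symm.toMonoidHom,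
    fun c => ?_, fun c => ?_⟩
  · obtain ⟨g, rfl⟩ := ConjClasses.mk_surjective c
    exact congrArg ConjClasses.mk (e.symm_apply_apply g)
  · obtain ⟨g, rfl⟩ := ConjClasses.mk_surjective c
    exact congrArg ConjClasses.mk (e.apply_symm_apply g)

theorem classNum_le_mul {G : Type u} [Group G] [Finite G] (N : Subgroup G) [N.Normal] :
    Nat.card (ConjClasses G) ≤ Nat.card (ConjClasses N) * Nat.card (ConjClasses (G ⧸ N)) :=
  Cfsg.Agent.S4201.result N

theorem classNum_le_mul_index {G : Type u} [Group G] [Finite G] (N : Subgroup G) [N.Normal] :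
    Nat.card (ConjClasses G) ≤ Nat.card (ConjClasses N) * N.index :=
  (classNum_le_mul N).trans (Nat.mul_le_mul_left _ (classNum_le_card _))

theorem classNum_mul_card_le {G : Type*} [Group G] [Finite G] (H : Subgroup G) :
    Nat.card (ConjClasses H) * Nat.card H ≤ Nat.card (ConjClasses G) * Nat.card G := by
  rw [← card_comm_eq_card_conjClasses_mul_card, ← card_comm_eq_card_conjClasses_mul_card]
  refine Nat.card_le_card_of_injective
    (fun x => ⟨((x.1.1 : G), (x.1.2 : G)), congrArg Subtype.val x.2.eq⟩) ?_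
  rintro ⟨⟨a, b⟩, h⟩ ⟨⟨c, d⟩, h'⟩ he
  have he' := congrArg Subtype.val he
  exact Subtype.ext (Prod.ext (Subtype.ext (congrArg Prod.fst he')) (Subtype.ext (congrArg Prod.snd he')))

theorem classNum_range {G H : Type*} [Group G] [Group H] (f : G →* H) (hf : Function.Injective f) :
    Nat.card (ConjClasses f.range) = Nat.card (ConjClasses G) :=
  (classNum_equiv (MonoidHom.ofInjective hf)).symm

/-- The `5/8` bound. -/
theorem eight_mul_classNum_le {G : Type*} [Group G] [Finite G] (h : ¬ ∀ a b : G, a * b = b * a) :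
    8 * Nat.card (ConjClasses G) ≤ 5 * Nat.card G := by
  cases nonempty_fintype G
  set Z := Subgroup.center G with hZ
  have hidx : 4 ≤ Z.index := by
    by_contra! hlt
    apply h
    have h0 : Z.index ≠ 0 := Subgroup.index_ne_zero_of_finite
    have hcyc : IsCyclic (G ⧸ Z) := by
      interval_cases hi : Z.index
      · exact absurd rfl h0
      · haveI : Subsingleton (G ⧸ Z) := (Nat.card_eq_one_iff_unique.1 hi).1
        infer_instance
      · haveI : Fact (Nat.Prime 2) := ⟨Nat.prime_two⟩
        exact isCyclic_of_prime_card (p := 2) hi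
      · haveI : Fact (Nat.Prime 3) := ⟨Nat.prime_three⟩
        exact isCyclic_of_prime_card (p := 3) hi
    exact commutative_of_cyclic_center_quotient (QuotientGroup.mk' Z)
      (by rw [QuotientGroup.ker_mk'])
  have h1 := Subgroup.card_mul_index Z
  have hK : Nat.card G = Nat.card Z + ∑ᶠ x ∈ ConjClasses.noncenter G, Nat.card x.carrier :=
    (Group.nat_card_center_add_sum_card_noncenter_eq_card G).symm
  have h2 : 2 * (ConjClasses.noncenter G).ncard ≤ ∑ᶠ x ∈ ConjClasses.noncenter G, Nat.card x.carrier := by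
    rw [finsum_mem_eq_finite_toFinset_sum _ (Set.toFinite _), Set.ncard_eq_toFinset_card _ (Set.toFinite _),
      mul_comm, ← smul_eq_mul, ← Finset.sum_const]
    refine Finset.sum_le_sum fun x hx => ?_
    rw [Set.Finite.mem_toFinset, ConjClasses.mem_noncenter] at hx
    exact Finite.one_lt_card_iff_nontrivial.2 hx.coe_sort
  have h3 : Nat.card (ConjClasses G) ≤ Nat.card Z + (ConjClasses.noncenter G).ncard := by
    have hc : ((ConjClasses.noncenter G)ᶜ).ncard = Nat.card Z := by
      rw [← Nat.card_coe_set_eq]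
      exact (Nat.card_congr ((ConjClasses.mk_bijOn G).equiv _)).symm
    have := Set.ncard_add_ncard_compl (ConjClasses.noncenter G)
    omega
  nlinarith

/-- A solvable group is bounded through the quotients by its `q'`-cores. -/
theorem classNum_le_prod {n : ℕ} (hK : BdBelow.{u} n) : ∀ (l : List ℕ), (∀ q ∈ l, q.Prime) →
    ∀ (G : Type u) [Group G] [Finite G], Group.IsSolvable G → Nat.card G ≤ n →
      (∀ q : ℕ, q.Prime → pCore q G ≠ ⊥ → q ∈ l) →
      Nat.card (ConjClasses G) ≤ (l.map fun q => bd q ((Nat.card G).factorization q)).prod := by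
  intro l
  induction l with
  | nil =>
    intro _ G _ _ hG _ hcore
    simp only [List.map_nil, List.prod_nil]
    rcases subsingleton_or_nontrivial G with h | h
    · exact (classNum_le_card G).trans_eq (Nat.card_of_subsingleton 1)
    exfalso
    obtain ⟨N, hNn, hN1, -, hmin⟩ := CfsgLib.Solvable.exists_minimal_normal_le (⊤ : Subgroup G) top_ne_bot
    haveI := hNn
    obtain ⟨-, r, hr, hNr⟩ := CfsgLib.Solvable.minimal_normal_elementary_abelian N hN1 hmin
    have hle : N ≤ pCore r G := CfsgLib.Solvable.le_pCore hNn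
      fun x => ⟨1, Subtype.ext (by rw [pow_one]; exact hNr x x.2)⟩
    exact List.not_mem_nil (hcore r hr fun h0 => hN1 (eq_bot_iff.2 (h0 ▸ hle)))
  | cons q l ih =>
    intro hl G _ _ hG hn hcore
    haveI : Fact q.Prime := ⟨hl q (List.mem_cons_self ..)⟩
    set N := pPrimeCore q G with hN
    haveI : N.Normal := CfsgLib.Solvable.pPrimeCore_normal q G
    have hNco : (Nat.card N).Coprime q := CfsgLib.Solvable.pPrimeCore_card_coprime q G
    have hQ : Nat.card (G ⧸ N) ≤ Nat.card G := Nat.card_le_card_of_surjective _ (QuotientGroup.mk'_surjective N)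
    have hb := hK (G ⧸ N) (Group.isSolvable_of_surjective (QuotientGroup.mk'_surjective N)) (hQ.trans hn) q
      (CfsgLib.Solvable.pPrimeCore_quotient_eq_bot N hN)
    have hfac : ∀ s : ℕ, ((Nat.card (G ⧸ N)).factorization s ≤ (Nat.card G).factorization s) ∧
        (Nat.card N).factorization s ≤ (Nat.card G).factorization s := fun s =>
      ⟨(Nat.factorization_le_iff_dvd Nat.card_pos.ne' Nat.card_pos.ne').2 (Subgroup.card_quotient_dvd_card N) s,
        (Nat.factorization_le_iff_dvd Nat.card_pos.ne' Nat.card_pos.ne').2 (Subgroup.card_subgroup_dvd_card N) s⟩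
    have ha := ih (fun s hs => hl s (List.mem_cons_of_mem q hs)) N inferInstance
      ((Subgroup.card_le_card_group N).trans hn) fun s hs hne => by
        have hmap : (pCore s N).map N.subtype ≤ pCore s G := CfsgLib.Solvable.map_subtype_pCore_le N
        have hne' : pCore s G ≠ ⊥ := fun h0 => hne ((Subgroup.map_eq_bot_iff_of_injective _
          N.subtype_injective).1 (eq_bot_iff.2 (h0 ▸ hmap)))
        rcases List.mem_cons.1 (hcore s hs hne') with rfl | h
        · exfalso
          haveI : Fact s.Prime := ⟨hs⟩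
          obtain ⟨k, hk⟩ := CfsgLib.Solvable.card_pCore (p := s) (G := N)
          have h1 : Nat.card (pCore s N) ∣ Nat.card N := Subgroup.card_subgroup_dvd_card _
          have h2 : Nat.Coprime (s ^ k) s := Nat.Coprime.coprime_dvd_left (hk ▸ h1) hNco
          rcases Nat.eq_zero_or_pos k with rfl | hk0
          · exact hne (Subgroup.card_eq_one.1 (by simpa using hk))
          · exact hs.one_lt.ne' ((Nat.coprime_self s).1 (Nat.Coprime.coprime_dvd_left (dvd_pow_self s hk0.ne') h2))
        · exact h
    rw [List.map_cons, List.prod_cons, mul_comm]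
    refine (classNum_le_mul N).trans (Nat.mul_le_mul (ha.trans ?_) (hb.trans ?_))
    · exact List.prod_le_prod' fun s hs => bd_mono (hl s (List.mem_cons_of_mem q hs)).one_le (hfac s).2
    · exact bd_mono (Fact.out : q.Prime).one_le (hfac q).1

end CfsgLib.SolvBlock
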