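import Cfsg.Agent.Lib.Blocks.FongFull
import Cfsg.Agent.Lib.CharDeep.Gallagher
import Cfsg.Agent.Lib.CharDeep.Extend
import Cfsg.Agent.Lib.Char.Orth

/-!
# At most `k(G/N)` irreducible characters lie over an invariant character of `N`
-/

set_option autoImplicit false
set_option maxHeartbeats 1000000
set_option linter.style.haveILetI false

namespace CfsgLib.SolvBlock

open Cfsg CfsgLib CfsgLib.CharTwist
open scoped Classical

universe u

/-- On a coset, all characters over an invariant character are proportional to one function. -/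
theorem exists_coset_function {G : Type u} [Group G] [Fintype G] (N : Subgroup G) [hN : N.Normal]
    [Fintype N] (θ : IrrCharacter N) (hinv : ∀ g : G, conjFun N (θ : N → ℂ) g = (θ : N → ℂ)) (x : G) :
    ∃ T : G → ℂ, ∀ χ : IrrCharacter G, classInner (fun n : N => (χ : G → ℂ) n) (θ : N → ℂ) ≠ 0 →
      ∃ κ : ℂ, ∀ n : N, (χ : G → ℂ) (x * n) = κ * T (x * n) := by
  set H := N ⊔ Subgroup.zpowers x with hHdef
  have hNH : N ≤ H := le_sup_left
  have hxH : x ∈ H := Subgroup.mem_sup_right (Subgroup.mem_zpowers x)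
  letI : Fintype H := Fintype.ofFinite H
  set N' := N.subgroupOf H with hN'
  haveI : N'.Normal := by rw [hN']; infer_instance
  letI : Fintype N' := Fintype.ofFinite N'
  set θ' : IrrCharacter N' := ⟨CliffordOver.trans N H hNH (θ : N → ℂ),
    CliffordOver.isIrrCharacter_trans N H hNH θ.2⟩ with hθ'
  have hinv' : ∀ g : H, conjFun N' (θ' : N' → ℂ) g = (θ' : N' → ℂ) := fun g => by
    have h : g ∈ inertia N' (θ' : N' → ℂ) := by
      rw [show inertia N' (θ' : N' → ℂ) = (inertia N (θ : N → ℂ)).subgroupOf H from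
        CliffordOver.inertia_trans N H hNH _, Subgroup.mem_subgroupOf, mem_inertia]
      exact hinv _
    exact mem_inertia.1 h
  have hcyc : IsCyclic (H ⧸ N') := by
    refine ⟨⟨QuotientGroup.mk' N' ⟨x, hxH⟩, fun q => ?_⟩⟩
    obtain ⟨⟨h, hh⟩, rfl⟩ := QuotientGroup.mk'_surjective N' q
    obtain ⟨a, ha, b, hb, rfl⟩ := Subgroup.mem_sup_of_normal_left.1 hh
    obtain ⟨k, rfl⟩ := Subgroup.mem_zpowers_iff.1 hb
    refine Subgroup.mem_zpowers_iff.2 ⟨k, ?_⟩
    rw [← map_zpow, QuotientGroup.mk'_apply, QuotientGroup.mk'_apply, QuotientGroup.eq,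
      Subgroup.mem_subgroupOf]
    have he : ((⟨x, hxH⟩ : H) ^ k)⁻¹ * ⟨a * x ^ k, hh⟩ = (⟨(x ^ k)⁻¹ * (a * x ^ k), by
        exact H.mul_mem (H.inv_mem (H.zpow_mem hxH k)) hh⟩ : H) := Subtype.ext (by simp)
    rw [he]
    have := hN.conj_mem a ha (x ^ k)⁻¹
    simpa [mul_assoc] using this
  obtain ⟨T₀, hT₀, hT₀N⟩ := CharDeep.Extend.extends_of_cyclic N' (θ' : N' → ℂ) θ'.2
    (fun g n => by
      obtain ⟨g, rfl⟩ : ∃ g', g = g' := ⟨g, rfl⟩
      exact congrFun (hinv' g) n) hcyc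
  have hres : (fun n : N' => T₀ n) = (θ' : N' → ℂ) := funext hT₀N
  obtain ⟨-, -, h3⟩ := CharDeep.Gal.quotient_bijection N' hT₀ (by rw [hres]; exact θ'.2)
  refine ⟨fun g => if h : g ∈ H then T₀ ⟨g, h⟩ else 0, fun χ hχ => ?_⟩
  obtain ⟨e, -, he⟩ := CharDeep.Cliff.res_eq_smul N χ.2 θ.2 hinv hχ
  obtain ⟨a, ha⟩ := Char.IsCharacter.exists_nat_combination
    (CfsgLib.Clifford.isCharacter_res (Char.IsIrrCharacter.isCharacter χ.2) H)
  have hβ : ∀ ψ : IrrCharacter H, ∃ κ : ℂ, ∀ n : N, (a ψ : ℂ) * (ψ : H → ℂ) ⟨x * n, H.mul_mem hxH (hNH n.2)⟩ =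
      κ * T₀ ⟨x * n, H.mul_mem hxH (hNH n.2)⟩ := by
    intro ψ
    by_cases ha0 : a ψ = 0
    · exact ⟨0, fun n => by simp [ha0]⟩
    have h1 : classInner (fun t : H => (χ : G → ℂ) t) (ψ : H → ℂ) ≠ 0 := by
      rw [ha, Char.classInner_sum_smul_irr]
      exact Nat.cast_ne_zero.2 ha0
    have h2 : classInner (fun n : N => (ψ : H → ℂ) ⟨n, hNH n.2⟩) (θ : N → ℂ) ≠ 0 := by
      intro h0
      have hr : Cfsg.IsCharacter N (fun n : N => (ψ : H → ℂ) ⟨n, hNH n.2⟩) :=
        isCharacter_comp (Char.IsIrrCharacter.isCharacter ψ.2) (Subgroup.inclusion hNH)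
      have hz := Char.IsCharacter.eq_sum_classInner hr
      rw [Finset.sum_eq_zero fun φ _ => ?_] at hz
      · exact Char.IsIrrCharacter.apply_one_ne_zero ψ.2 (congrFun hz 1)
      by_cases hφ : φ = θ
      · rw [hφ, h0, zero_smul]
      by_cases h' : classInner (fun n : N => (ψ : H → ℂ) ⟨n, hNH n.2⟩) (φ : N → ℂ) = 0
      · rw [h', zero_smul]
      exfalso
      have h4 := CfsgLib.Blocks.constituent_trans N H hNH (χ := χ) (θ := φ) h1 h'
      rw [he, Char.classInner_smul_left] at h4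
      have h5 : classInner (θ : N → ℂ) (φ : N → ℂ) ≠ 0 := right_ne_zero_of_mul h4
      exact hφ (Subtype.ext (Char.eq_of_classInner_ne_zero θ.2 φ.2 h5).symm)
    obtain ⟨β, hβ, hb⟩ := h3 (ψ : H → ℂ) ψ.2 (by
      rw [hres, hθ', ← CliffordOver.classInner_trans N H hNH] at *
      exact h2)
    refine ⟨(a ψ : ℂ) * β (QuotientGroup.mk' N' ⟨x, hxH⟩), fun n => ?_⟩
    have hq : QuotientGroup.mk' N' ⟨x * n, H.mul_mem hxH (hNH n.2)⟩ = QuotientGroup.mk' N' ⟨x, hxH⟩ := by
      rw [QuotientGroup.mk'_apply, QuotientGroup.mk'_apply, eq_comm, QuotientGroup.eq,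
        Subgroup.mem_subgroupOf]
      simp
    rw [← hb, Pi.mul_apply, Function.comp_apply, hq, mul_assoc]
  choose κ hκ using hβ
  refine ⟨∑ ψ : IrrCharacter H, κ ψ, fun n => ?_⟩
  have h := congrFun ha ⟨x * n, H.mul_mem hxH (hNH n.2)⟩
  simp only [Finset.sum_apply, Pi.smul_apply, smul_eq_mul] at h
  simp only [dif_pos (H.mul_mem hxH (hNH n.2))]
  rw [Finset.sum_mul, h]
  exact Finset.sum_congr rfl fun ψ _ => hκ ψ n

/-- At most `k(G/N)` characters lie over an invariant character. -/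
theorem card_over_le {G : Type u} [Group G] [Fintype G] (N : Subgroup G) [hN : N.Normal]
    [Fintype N] (θ : IrrCharacter N) (hinv : ∀ g : G, conjFun N (θ : N → ℂ) g = (θ : N → ℂ)) :
    Nat.card {χ : IrrCharacter G // classInner (fun n : N => (χ : G → ℂ) n) (θ : N → ℂ) ≠ 0} ≤
      Nat.card (ConjClasses (G ⧸ N)) := by
  set S := {χ : IrrCharacter G // classInner (fun n : N => (χ : G → ℂ) n) (θ : N → ℂ) ≠ 0}
  letI : Fintype (ConjClasses (G ⧸ N)) := Fintype.ofFinite _
  letI : Fintype S := Fintype.ofFinite _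
  choose T hT using exists_coset_function N θ hinv
  let rep : ConjClasses (G ⧸ N) → G := fun c => Quotient.out (Quotient.out c)
  let pt : ConjClasses (G ⧸ N) → G := fun c =>
    if h : ∃ n : N, T (rep c) (rep c * n) ≠ 0 then rep c * (h.choose : G) else rep c
  let Φ : (S → ℂ) →ₗ[ℂ] (ConjClasses (G ⧸ N) → ℂ) :=
    { toFun := fun a c => ∑ χ : S, a χ * (χ.1 : G → ℂ) (pt c)
      map_add' := fun a b => by funext c; simp [add_mul, Finset.sum_add_distrib]
      map_smul' := fun r a => by funext c; simp [Finset.mul_sum, mul_assoc] }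
  have hker : ∀ a, Φ a = 0 → a = 0 := by
    intro a ha
    have hall : ∀ g : G, ∑ χ : S, a χ * (χ.1 : G → ℂ) g = 0 := by
      intro g
      set c : ConjClasses (G ⧸ N) := ConjClasses.mk (QuotientGroup.mk g) with hc
      have hrc : (QuotientGroup.mk (rep c) : G ⧸ N) = Quotient.out c := Quotient.out_eq _
      have hconj : IsConj (QuotientGroup.mk (rep c) : G ⧸ N) (QuotientGroup.mk g) := by
        rw [hrc, ← ConjClasses.mk_eq_mk_iff_isConj]
        exact Quotient.out_eq c
      obtain ⟨y, hy⟩ := isConj_iff.1 hconj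
      obtain ⟨y, rfl⟩ := QuotientGroup.mk_surjective y
      rw [← QuotientGroup.mk_inv, ← QuotientGroup.mk_mul, ← QuotientGroup.mk_mul, QuotientGroup.eq] at hy
      set n : N := ⟨(y * rep c * y⁻¹)⁻¹ * g, hy⟩ with hn
      have hg : g = y * (rep c * (y⁻¹ * (n : G) * y)) * y⁻¹ := by
        rw [hn]; group
      have hn' : y⁻¹ * (n : G) * y ∈ N := by simpa using hN.conj_mem _ n.2 y⁻¹
      obtain ⟨m, hm⟩ : ∃ m : N, (m : G) = y⁻¹ * (n : G) * y := ⟨⟨_, hn'⟩, rfl⟩
      rw [← hm] at hg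
      have hcl : ∀ χ : S, (χ.1 : G → ℂ) g = (χ.1 : G → ℂ) (rep c * m) := fun χ => by
        rw [hg]
        exact Char.IsIrrCharacter.isClassFunction χ.1.2 _ _
      simp only [hcl]
      have hκ := fun χ : S => hT (rep c) χ.1 χ.2
      choose κ hκ using hκ
      simp only [hκ, ← mul_assoc, ← Finset.sum_mul]
      by_cases hex : ∃ n : N, T (rep c) (rep c * n) ≠ 0
      · have h0 := congrFun ha c
        simp only [Φ, LinearMap.coe_mk, AddHom.coe_mk, pt, dif_pos hex, Pi.zero_apply, hκ,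
          ← mul_assoc, ← Finset.sum_mul] at h0
        rw [(mul_eq_zero.1 h0).resolve_right hex.choose_spec, zero_mul]
      · push Not at hex
        rw [hex, mul_zero]
    have hli := (Char.linearIndependent_irrCharacter (G := G)).comp
      (fun χ : S => χ.1) Subtype.val_injective
    funext χ
    exact Fintype.linearIndependent_iff.1 hli a (funext fun g => by
      simpa [Finset.sum_apply] using hall g) χ
  have h := LinearMap.finrank_le_finrank_of_injective (f := Φ)
    ((injective_iff_map_eq_zero Φ).2 hker)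
  rw [Module.finrank_fintype_fun_eq_card, Module.finrank_fintype_fun_eq_card] at h
  rwa [Nat.card_eq_fintype_card, Nat.card_eq_fintype_card]

end CfsgLib.SolvBlock
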