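import Cfsg.Agent.Lib.SolvBlock.Main
import Cfsg.Agent.Lib.SolvBlock.Count
import Cfsg.Agent.Lib.Blocks.FongReynolds
import Cfsg.Agent.Lib.Transfer.ThompsonFactor
import Cfsg.Agent.S0914

/-!
# `k(B) ≤ 3 ^ (d - 1) * p ^ d` for blocks of solvable groups
-/

set_option autoImplicit false
set_option linter.style.haveILetI false
set_option maxHeartbeats 1000000
set_option synthInstance.maxHeartbeats 400000

namespace CfsgLib.SolvBlock

open Cfsg CfsgLib CfsgLib.Blocks CfsgLib.CharTwist
open scoped Classical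

universe u

variable {p : ℕ} [Fact p.Prime] {M : Ideal AlgInt} [M.IsMaximal]

theorem ncard_block_le (hM : IsPModular p M) (n : ℕ) :
    ∀ (G : Type u) [Group G] [Finite G], Nat.card G = n → Group.IsSolvable G →
      ∀ (B : Set (IrrCharacter G)), IsPBlock M B → B.ncard ≤ bd p (blockDefect p B) := by
  induction n using Nat.strong_induction_on with
  | _ n ih =>
  intro G _ _ hn hsol B hB
  haveI := hsol
  haveI : Fintype G := Fintype.ofFinite G
  have hsolv : IsPSolvable p G := CfsgLib.ThompsonFactor.isPSolvable_of_isSolvable hsol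
  set N := pPrimeCore p G with hNdef
  haveI : N.Normal := CfsgLib.Solvable.pPrimeCore_normal p G
  haveI : Fintype N := Fintype.ofFinite N
  obtain ⟨χ, hχ⟩ := IsPBlock.nonempty hB
  obtain ⟨η, hη, hc⟩ := CfsgLib.Clifford.exists_constituent_res N χ.2
  set θ : IrrCharacter N := ⟨η, hη⟩ with hθ
  set T := inertia N (θ : N → ℂ) with hTdef
  by_cases hT : T = ⊤
  · have hinv : ∀ g : G, conjFun N (θ : N → ℂ) g = (θ : N → ℂ) := fun g =>
      mem_inertia.1 (show g ∈ T by rw [hT]; trivial)
    obtain ⟨B', hB', hmem, χ', hχ', hdeg⟩ := fong_full hM hsolv N hNdef θ hinv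
    obtain rfl : B' = B := IsPBlock.eq_of_mem hB' hB ((hmem χ).2 hc) hχ
    have hmin : CfsgLib.BlockReg.minExp p B' = 0 := Nat.le_zero.1
      ((CfsgLib.BlockReg.minExp_le hχ').trans (le_of_eq (Nat.factorization_eq_zero_of_not_dvd hdeg)))
    rw [CfsgLib.BlockReg.blockDefect_eq, hmin, Nat.sub_zero, ← Nat.card_coe_set_eq]
    haveI : Group.IsSolvable (G ⧸ N) := Group.isSolvable_of_surjective (QuotientGroup.mk'_surjective N)
    refine (Nat.card_congr (Equiv.subtypeEquivRight hmem)).trans_le ((card_over_le N θ hinv).trans ?_)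
    exact (classNum_le_bd (CfsgLib.Solvable.pPrimeCore_quotient_eq_bot N hNdef)).trans
      (bd_mono (Fact.out : p.Prime).one_le ((Nat.factorization_le_iff_dvd Nat.card_pos.ne' Nat.card_pos.ne').2
        (Subgroup.card_quotient_dvd_card N) p))
  · haveI : Fintype T := Fintype.ofFinite T
    have hNT : N ≤ T := le_inertia N (Char.IsIrrCharacter.isClassFunction θ.2)
    have hpp : p.Prime := Fact.out
    have hNco : (Nat.card N).Coprime p := hNdef ▸ CfsgLib.Solvable.pPrimeCore_card_coprime p G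
    have hθblock : ({θ} : Set (IrrCharacter N)) = blockOf M (θ : N → ℂ) :=
      ((Cfsg.Agent.S0914.result p M hM θ).1 fun h => (hpp.coprime_iff_not_dvd.1 hNco.symm)
        (h.trans (Nat.div_dvd_of_dvd (CfsgLib.BlockReg.deg_dvd_card θ)))).symm
    have hbθ : IsPBlock M ({θ} : Set (IrrCharacter N)) := hθblock ▸ isPBlock_blockOf θ
    have hTb : ∀ g : G, g ∈ T ↔ ∀ θ₁ ∈ ({θ} : Set (IrrCharacter N)),
        conjIrr N θ₁ g ∈ ({θ} : Set (IrrCharacter N)) := fun g => by
      simp only [Set.mem_singleton_iff, forall_eq, hTdef, mem_inertia]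
      exact ⟨fun h => Subtype.ext (by rw [coe_conjIrr]; exact h),
        fun h => by rw [← coe_conjIrr, h]⟩
    obtain ⟨ψ, hψo, hψe⟩ := exists_overSet_of_covers N T hNT hbθ hTb (χ := χ)
      ⟨θ, Set.mem_singleton θ, hc⟩
    set B' := blockOf M (ψ : T → ℂ) with hB'def
    have hB' : IsPBlock M B' := isPBlock_blockOf ψ
    have hψB' : ψ ∈ B' := mem_blockOf_self ψ
    obtain ⟨B₁, hind, -, -, hmem⟩ := fongReynolds N T hNT hbθ hTb hB' hψB' hψo
    obtain rfl : B₁ = B :=
      IsPBlock.eq_of_mem hind.2.1 hB ((hmem χ).2 ⟨ψ, hψB', hψe⟩) hχ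
    obtain ⟨hdef, -⟩ := fongReynolds_defect N T hNT hM hbθ hTb hB' hψB' hψo hind
    obtain ⟨D, hD⟩ := exists_defectGroup hM hB'
    have hd : blockDefect p B' = blockDefect p B₁ := by
      apply Nat.pow_right_injective hpp.two_le
      show p ^ _ = p ^ _
      rw [← card_defectGroup hM hB' hD, ← card_defectGroup hM hind.2.1 (hdef D hD),
        Subgroup.card_map_of_injective T.subtype_injective]
    have hlt : Nat.card T < n := hn ▸ lt_of_le_of_ne (Subgroup.card_le_card_group T)
      fun h => hT (Subgroup.eq_top_of_card_eq T h)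
    have h1 := ih _ hlt T rfl inferInstance B' hB'
    rw [hd] at h1
    refine le_trans ?_ h1
    let f : IrrCharacter G → IrrCharacter T := fun φ =>
      if h : ∃ ψ ∈ B', (φ : G → ℂ) = indFun T (ψ : T → ℂ) then h.choose else ψ
    refine Set.ncard_le_ncard_of_injOn f (fun φ hφ => ?_) (fun φ hφ φ' hφ' e => ?_) (Set.toFinite _)
    · have h := (hmem φ).1 hφ
      simp only [f, dif_pos h]
      exact h.choose_spec.1
    · have h := (hmem φ).1 hφ
      have h' := (hmem φ').1 hφ'
      simp only [f, dif_pos h, dif_pos h'] at e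
      refine Subtype.ext ?_
      rw [h.choose_spec.2, h'.choose_spec.2, e]

end CfsgLib.SolvBlock
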