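import Cfsg.Agent.Lib.SolvBlock.Basic
import Cfsg.Agent.Lib.Solvable.CoprimeAction

/-!
# Splitting a coprime module
-/

set_option autoImplicit false
set_option linter.style.haveILetI false
set_option maxHeartbeats 800000

namespace CfsgLib.SolvBlock

open Cfsg
open scoped Classical

universe u

/-- A self-centralizing normal elementary abelian subgroup of coprime index. -/
structure CoprimeModule {X : Type u} [Group X] (p : ℕ) (V : Subgroup X) : Prop where
  normal : V.Normal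
  exp : ∀ v ∈ V, v ^ p = 1
  idx : ¬ p ∣ V.index
  self : Subgroup.centralizer (V : Set X) = V

variable {p : ℕ} [hp : Fact p.Prime]

theorem CoprimeModule.comm {X : Type u} [Group X] {V : Subgroup X} (h : CoprimeModule p V) :
    ∀ a ∈ V, ∀ b ∈ V, a * b = b * a := fun a ha b hb => by
  rw [← h.self] at ha
  exact (Subgroup.mem_centralizer_iff.mp ha b hb).symm

theorem CoprimeModule.isPGroup {X : Type u} [Group X] {V : Subgroup X} (h : CoprimeModule p V) :
    IsPGroup p V := fun a => ⟨1, Subtype.ext (by rw [pow_one]; exact h.exp a a.2)⟩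

theorem CoprimeModule.pPrimeCore_eq_bot {X : Type u} [Group X] [Finite X] {V : Subgroup X}
    (h : CoprimeModule p V) : pPrimeCore p X = ⊥ := by
  haveI := h.normal
  set L := pPrimeCore p X
  haveI : L.Normal := CfsgLib.Solvable.pPrimeCore_normal p X
  have hco : (Nat.card L).Coprime p := CfsgLib.Solvable.pPrimeCore_card_coprime p X
  obtain ⟨k, hk⟩ := IsPGroup.iff_card.1 h.isPGroup
  have hdis : L ⊓ V = ⊥ := Subgroup.inf_eq_bot_of_coprime (by rw [hk]; exact hco.pow_right k)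
  refine eq_bot_iff.2 fun x hx => ?_
  have hxV : x ∈ V := by
    rw [← h.self, Subgroup.mem_centralizer_iff]
    exact fun v hv => ((Subgroup.commute_of_normal_of_disjoint L V inferInstance inferInstance
      (disjoint_iff.2 hdis) x v hx hv).eq).symm
  exact hdis ▸ Subgroup.mem_inf.2 ⟨hx, hxV⟩

theorem CoprimeModule.factorization {X : Type u} [Group X] [Finite X] {V : Subgroup X}
    (h : CoprimeModule p V) {v : ℕ} (hv : Nat.card V = p ^ v) : (Nat.card X).factorization p = v := by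
  rw [← Subgroup.card_mul_index V, hv, Nat.factorization_mul (pow_ne_zero _ hp.out.ne_zero)
    Subgroup.index_ne_zero_of_finite, Finsupp.add_apply, Nat.factorization_eq_zero_of_not_dvd h.idx,
    Nat.Prime.factorization_pow hp.out]
  simp

/-- The induction hypothesis on a smaller module. -/
theorem CoprimeModule.bound {n : ℕ} (hK : BdBelow.{u} n) {X : Type u} [Group X] [Finite X]
    [Group.IsSolvable X] (hn : Nat.card X ≤ n) {V : Subgroup X} (h : CoprimeModule p V) {v : ℕ}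
    (hv : Nat.card V = p ^ v) : Nat.card (ConjClasses X) ≤ bd p v := by
  have := hK X inferInstance hn p h.pPrimeCore_eq_bot
  rwa [h.factorization hv] at this

theorem CoprimeModule.exists_complement {X : Type u} [Group X] [Finite X] {V : Subgroup X}
    (h : CoprimeModule p V) : ∃ G : Subgroup X, V.IsComplement' G := by
  haveI := h.normal
  obtain ⟨k, hk⟩ := IsPGroup.iff_card.1 h.isPGroup
  refine Subgroup.exists_right_complement'_of_coprime ?_
  rw [hk]
  exact Nat.Coprime.pow_left k (hp.out.coprime_iff_not_dvd.2 h.idx)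

/-- Splitting along two invariant summands. -/
theorem split {X : Type u} [Group X] [Finite X] {V : Subgroup X} (h : CoprimeModule p V)
    (W₁ W₂ : Subgroup X) [W₁.Normal] [W₂.Normal] (hsup : W₁ ⊔ W₂ = V) (hdis : W₁ ⊓ W₂ = ⊥) :
    ∃ (M : Subgroup X) (_ : M.Normal), W₂ ≤ M ∧ M ⊓ W₁ = ⊥ ∧ CoprimeModule p (V.subgroupOf M) ∧
      CoprimeModule p (V.map (QuotientGroup.mk' M)) ∧
      Nat.card (V.subgroupOf M) = Nat.card W₂ ∧ Nat.card (V.map (QuotientGroup.mk' M)) = Nat.card W₁ := by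
  haveI := h.normal
  obtain ⟨G, hG⟩ := h.exists_complement
  have hW₁V : W₁ ≤ V := hsup ▸ le_sup_left
  have hW₂V : W₂ ≤ V := hsup ▸ le_sup_right
  set C₁ := G ⊓ Subgroup.centralizer (W₁ : Set X) with hC₁
  set M := W₂ ⊔ C₁ with hMdef
  have hdec : ∀ x : X, ∃ v ∈ V, ∃ g ∈ G, x = v * g := fun x => by
    obtain ⟨⟨⟨v, hv⟩, ⟨g, hg⟩⟩, hx, -⟩ := Subgroup.IsComplement.existsUnique hG x
    exact ⟨v, hv, g, hg, hx.symm⟩
  have hVG : ∀ x ∈ V, x ∈ G → x = 1 := fun x hx hx' => Subgroup.disjoint_def.1 hG.disjoint hx hx'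
  have hwdec : ∀ v ∈ V, ∃ a ∈ W₁, ∃ b ∈ W₂, v = a * b := fun v hv => by
    rw [← hsup, Subgroup.mem_sup_of_normal_left] at hv
    obtain ⟨a, ha, b, hb, e⟩ := hv
    exact ⟨a, ha, b, hb, e.symm⟩
  haveI hMn : M.Normal := ⟨fun m hm x => by
    obtain ⟨b, hb, c, hc, rfl⟩ := Subgroup.mem_sup_of_normal_left.1 hm
    obtain ⟨v, hv, g, hg, rfl⟩ := hdec x
    obtain ⟨a, ha, b', hb', rfl⟩ := hwdec v hv
    have hc' : g * c * g⁻¹ ∈ C₁ := Subgroup.mem_inf.2
      ⟨G.mul_mem (G.mul_mem hg (Subgroup.mem_inf.1 hc).1) (G.inv_mem hg),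
        (inferInstance : (Subgroup.centralizer (W₁ : Set X)).Normal).conj_mem c (Subgroup.mem_inf.1 hc).2 g⟩
    have hac : a * (g * c * g⁻¹) = (g * c * g⁻¹) * a :=
      Subgroup.mem_centralizer_iff.1 (Subgroup.mem_inf.1 hc').2 a ha
    rw [show a * b' * g * (b * c) * (a * b' * g)⁻¹ =
      ((a * b' * g) * b * (a * b' * g)⁻¹) * ((a * b' * g) * c * (a * b' * g)⁻¹) by group]
    refine M.mul_mem (Subgroup.mem_sup_left ((inferInstance : W₂.Normal).conj_mem b hb _)) ?_
    have hcomm : a * b' = b' * a := h.comm a (hW₁V ha) b' (hW₂V hb')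
    have e : (a * b' * g) * c * (a * b' * g)⁻¹ = b' * (g * c * g⁻¹) * b'⁻¹ := by
      rw [hcomm]
      calc b' * a * g * c * (b' * a * g)⁻¹ = b' * (a * (g * c * g⁻¹)) * a⁻¹ * b'⁻¹ := by group
        _ = b' * ((g * c * g⁻¹) * a) * a⁻¹ * b'⁻¹ := by rw [hac]
        _ = _ := by group
    rw [e]
    exact M.mul_mem (M.mul_mem (Subgroup.mem_sup_left hb') (Subgroup.mem_sup_right hc'))
      (M.inv_mem (Subgroup.mem_sup_left hb'))⟩
  have hMV : ∀ m ∈ M, m ∈ V → m ∈ W₂ := by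
    intro m hm hmV
    obtain ⟨b, hb, c, hc, rfl⟩ := Subgroup.mem_sup_of_normal_left.1 hm
    have : c = 1 := hVG c ((V.mul_mem_cancel_left (hW₂V hb)).1 hmV) (Subgroup.mem_inf.1 hc).1
    simpa [this] using hb
  have hMW₁ : M ⊓ W₁ = ⊥ := eq_bot_iff.2 fun m hm => by
    rw [← hdis]
    exact Subgroup.mem_inf.2 ⟨(Subgroup.mem_inf.1 hm).2,
      hMV m (Subgroup.mem_inf.1 hm).1 (hW₁V (Subgroup.mem_inf.1 hm).2)⟩
  have hsubW : V.subgroupOf M = W₂.subgroupOf M := by
    ext m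
    rw [Subgroup.mem_subgroupOf, Subgroup.mem_subgroupOf]
    exact ⟨hMV m m.2, fun hm => hW₂V hm⟩
  have hmapW : V.map (QuotientGroup.mk' M) = W₁.map (QuotientGroup.mk' M) := by
    rw [← hsup, Subgroup.map_sup, sup_eq_left]
    intro y hy
    obtain ⟨b, hb, rfl⟩ := hy
    rw [QuotientGroup.mk'_apply, (QuotientGroup.eq_one_iff b).2 (Subgroup.mem_sup_left hb)]
    exact one_mem _
  have hW₁inj : ∀ a ∈ W₁, a ∈ M → a = 1 := fun a ha haM => by
    have : a ∈ M ⊓ W₁ := Subgroup.mem_inf.2 ⟨haM, ha⟩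
    rwa [hMW₁] at this
  refine ⟨M, hMn, le_sup_left, hMW₁, ⟨inferInstance, fun v hv => Subtype.ext (h.exp _ hv), fun hd => h.idx
    (hd.trans (Subgroup.relIndex_dvd_index_of_normal (H := V) (K := M))), ?_⟩,
    ⟨h.normal.map _ (QuotientGroup.mk'_surjective M), ?_,
      fun hd => h.idx (hd.trans (Subgroup.index_map_dvd _ (QuotientGroup.mk'_surjective M))), ?_⟩, ?_, ?_⟩
  · refine le_antisymm (fun m hm => ?_) (fun m hm => ?_)
    · obtain ⟨b, hb, c, hc, hbc⟩ := Subgroup.mem_sup_of_normal_left.1 m.2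
      have hcV : c ∈ V := by
        rw [← h.self, Subgroup.mem_centralizer_iff]
        intro v hv
        obtain ⟨a, ha, b', hb', rfl⟩ := hwdec v hv
        have h1 : a * c = c * a := Subgroup.mem_centralizer_iff.1 (Subgroup.mem_inf.1 hc).2 a ha
        have h2 : b' * (m : X) = (m : X) * b' :=
          congrArg Subtype.val (Subgroup.mem_centralizer_iff.1 hm ⟨b', Subgroup.mem_sup_left hb'⟩
            (show b' ∈ V from hW₂V hb'))
        rw [← hbc] at h2
        have h3 : b' * b = b * b' := h.comm _ (hW₂V hb') _ (hW₂V hb)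
        have h4 : b' * c = c * b' := by
          refine mul_left_cancel (a := b) ?_
          rw [← mul_assoc, ← h3, mul_assoc, h2, mul_assoc]
        rw [mul_assoc, h4, ← mul_assoc, h1, mul_assoc]
      rw [Subgroup.mem_subgroupOf, ← hbc]
      exact V.mul_mem (hW₂V hb) hcV
    · rw [Subgroup.mem_centralizer_iff]
      exact fun v hv => Subtype.ext (h.comm _ hv _ hm)
  · rintro _ ⟨v, hv, rfl⟩
    rw [← map_pow, h.exp v hv, map_one]
  · refine le_antisymm (fun y hy => ?_) (fun y hy => ?_)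
    · obtain ⟨x, rfl⟩ := QuotientGroup.mk'_surjective M y
      obtain ⟨v, hv, g, hg, rfl⟩ := hdec x
      suffices g ∈ M by
        refine ⟨v, hv, ?_⟩
        rw [map_mul, QuotientGroup.mk'_apply _ g, (QuotientGroup.eq_one_iff g).2 this, mul_one]
      refine Subgroup.mem_sup_right (Subgroup.mem_inf.2 ⟨hg, Subgroup.mem_centralizer_iff.2 fun a ha => ?_⟩)
      have h1 := Subgroup.mem_centralizer_iff.1 hy (QuotientGroup.mk' M a) ⟨a, hW₁V ha, rfl⟩
      rw [← map_mul, ← map_mul, QuotientGroup.mk'_apply, QuotientGroup.mk'_apply, QuotientGroup.eq] at h1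
      have hva : (a * (v * g))⁻¹ * (v * g * a) = g⁻¹ * a⁻¹ * g * a := by
        have hc : a * v = v * a := h.comm _ (hW₁V ha) _ hv
        calc (a * (v * g))⁻¹ * (v * g * a) = g⁻¹ * v⁻¹ * a⁻¹ * v * g * a := by group
          _ = g⁻¹ * (a * v)⁻¹ * v * g * a := by group
          _ = g⁻¹ * (v * a)⁻¹ * v * g * a := by rw [hc]
          _ = _ := by group
      rw [hva] at h1
      have h2 : g⁻¹ * a⁻¹ * g * a ∈ W₁ := W₁.mul_mem (by
        simpa using (inferInstance : W₁.Normal).conj_mem a⁻¹ (W₁.inv_mem ha) g⁻¹) ha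
      have h3 := hW₁inj _ h2 h1
      calc a * g = a * g * (g⁻¹ * a⁻¹ * g * a) := by rw [h3, mul_one]
        _ = g * a := by group
    · rw [Subgroup.mem_centralizer_iff]
      rintro _ ⟨v, hv, rfl⟩
      obtain ⟨w, hw, rfl⟩ := hy
      rw [← map_mul, ← map_mul, h.comm v hv w hw]
  · rw [hsubW]
    exact Nat.card_congr (Subgroup.subgroupOfEquivOfLe le_sup_left).toEquiv
  · rw [hmapW]
    refine (Nat.card_congr (Equiv.ofBijective ((QuotientGroup.mk' M).subgroupMap W₁)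
      ⟨(injective_iff_map_eq_one _).2 fun a ha => Subtype.ext (hW₁inj a a.2
        ((QuotientGroup.eq_one_iff (a : X)).1 (congrArg Subtype.val ha))),
        (QuotientGroup.mk' M).subgroupMap_surjective W₁⟩)).symm

/-- Class numbers through a split. -/
theorem split_bound {n : ℕ} (hK : BdBelow.{u} n) {X : Type u} [Group X] [Finite X] [Group.IsSolvable X]
    (hn : Nat.card X ≤ n + 1) {V : Subgroup X} (h : CoprimeModule p V) (W₁ W₂ : Subgroup X) [W₁.Normal]
    [W₂.Normal] (hsup : W₁ ⊔ W₂ = V) (hdis : W₁ ⊓ W₂ = ⊥) (h1 : W₁ ≠ ⊥) (h2 : W₂ ≠ ⊥) :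
    ∃ (M : Subgroup X) (a b : ℕ), W₂ ≤ M ∧ CoprimeModule p (V.subgroupOf M) ∧ 1 ≤ a ∧ 1 ≤ b ∧
      Nat.card (V.subgroupOf M) = p ^ b ∧ Nat.card V = p ^ (a + b) ∧ Nat.card M ≤ n ∧
      (V.subgroupOf M).map M.subtype = W₂ ∧
      Nat.card (ConjClasses X) ≤ Nat.card (ConjClasses M) * bd p a ∧
      Nat.card (ConjClasses M) ≤ bd p b := by
  haveI := h.normal
  obtain ⟨M, hMn, hW₂M, hMW₁, hM, hQ, hc2, hc1⟩ := split h W₁ W₂ hsup hdis
  haveI := hMn
  have hW₁V : W₁ ≤ V := hsup ▸ le_sup_left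
  obtain ⟨a, ha⟩ := IsPGroup.iff_card.1 (h.isPGroup.to_le hW₁V)
  obtain ⟨b, hb⟩ := IsPGroup.iff_card.1 (h.isPGroup.to_le (hsup ▸ le_sup_right : W₂ ≤ V))
  have ha1 : 1 ≤ a := Nat.one_le_iff_ne_zero.2 fun h0 => h1 (Subgroup.card_eq_one.1 (by rw [ha, h0, pow_zero]))
  have hb1 : 1 ≤ b := Nat.one_le_iff_ne_zero.2 fun h0 => h2 (Subgroup.card_eq_one.1 (by rw [hb, h0, pow_zero]))
  have hMne : M ≠ ⊥ := fun h0 => h2 (eq_bot_iff.2 (h0 ▸ hW₂M))
  have hMtop : M ≠ ⊤ := fun h0 => h1 (by rw [h0, top_inf_eq] at hMW₁; exact hMW₁)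
  have hMlt : Nat.card M < Nat.card X :=
    lt_of_le_of_ne (Subgroup.card_le_card_group M) fun h0 => hMtop (Subgroup.eq_top_of_card_eq M h0)
  have hQlt : Nat.card (X ⧸ M) < Nat.card X := by
    rw [Subgroup.card_eq_card_quotient_mul_card_subgroup M]
    have h3 : 1 < Nat.card M := Finite.one_lt_card_iff_nontrivial.2 ((Subgroup.nontrivial_iff_ne_bot M).2 hMne)
    have h4 : 0 < Nat.card (X ⧸ M) := Nat.card_pos
    nlinarith
  haveI : Group.IsSolvable (X ⧸ M) := Group.isSolvable_of_surjective (QuotientGroup.mk'_surjective M)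
  refine ⟨M, a, b, hW₂M, hM, ha1, hb1, by rw [hc2, hb], ?_, by omega, ?_, ?_, hM.bound hK (by omega) (by rw [hc2, hb])⟩
  · rw [pow_add, ← ha, ← hb, ← hsup, ← Nat.card_prod]
    refine (Nat.card_eq_of_bijective (fun x : W₁ × W₂ =>
      (⟨(x.1 : X) * x.2, Subgroup.mul_mem_sup x.1.2 x.2.2⟩ : ↥(W₁ ⊔ W₂))) ⟨?_, ?_⟩).symm
    · rintro ⟨x, y⟩ ⟨x', y'⟩ hxy
      have hxy' : (x : X) * y = x' * y' := congrArg Subtype.val hxy
      have h5 : (x' : X)⁻¹ * x ∈ W₁ ⊓ W₂ := Subgroup.mem_inf.2 ⟨W₁.mul_mem (W₁.inv_mem x'.2) x.2, by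
        rw [show (x' : X)⁻¹ * x = (x' : X)⁻¹ * (x * y) * (y : X)⁻¹ by group, hxy', ← mul_assoc, inv_mul_cancel,
          one_mul]
        exact W₂.mul_mem y'.2 (W₂.inv_mem y.2)⟩
      rw [hdis, Subgroup.mem_bot, inv_mul_eq_one] at h5
      rw [h5] at hxy'
      exact Prod.ext (Subtype.ext h5.symm) (Subtype.ext (mul_left_cancel hxy'))
    · rintro ⟨z, hz⟩
      obtain ⟨x, hx, y, hy, rfl⟩ := Subgroup.mem_sup_of_normal_left.1 hz
      exact ⟨(⟨x, hx⟩, ⟨y, hy⟩), rfl⟩
  · refine (Subgroup.eq_of_le_of_card_ge (fun x hx => ?_) ?_).symm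
    · exact ⟨⟨x, hW₂M hx⟩, (hsup ▸ Subgroup.mem_sup_right hx : x ∈ V), rfl⟩
    · rw [Subgroup.card_subtype, hc2]
  · exact (classNum_le_mul M).trans (Nat.mul_le_mul_left _ (hQ.bound hK (by omega) (by rw [hc1, ha])))

theorem bd_split (a b : ℕ) (ha : 1 ≤ a) (hb : 1 ≤ b) : 3 * (bd p a * bd p b) = bd p (a + b) := by
  unfold bd
  rw [mul_mul_mul_comm, ← pow_add, ← pow_add, ← mul_assoc, ← pow_succ']
  congr 2
  omega

/-- A module with `m + 1` summands. -/
theorem pieces_bound {n : ℕ} (hK : BdBelow.{u} n) : ∀ (m : ℕ) (X : Type u) [Group X] [Finite X],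
    Group.IsSolvable X → Nat.card X ≤ n → ∀ (V : Subgroup X), CoprimeModule p V →
    ∀ (W : Fin (m + 1) → Subgroup X), (∀ i, (W i).Normal) → (∀ i, W i ≠ ⊥) → ⨆ i, W i = V →
      (∀ i, W i ⊓ ⨆ j ∈ {j | j ≠ i}, W j = ⊥) → ∀ v, Nat.card V = p ^ v →
      Nat.card (ConjClasses X) * 3 ^ m ≤ bd p v := by
  intro m
  induction m with
  | zero =>
    intro X _ _ _ hn V h W _ _ _ _ v hv
    simpa using h.bound hK hn hv
  | succ m ih =>
    intro X _ _ _ hn V h W hWn hW1 hWsup hWdis v hv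
    set W₁ := W 0
    set W₂ := ⨆ j : Fin (m + 1), W j.succ with hW₂
    haveI : W₁.Normal := hWn 0
    haveI : W₂.Normal := ⟨fun x hx g => by
      have hle : W₂.map (MulAut.conj g).toMonoidHom ≤ W₂ := by
        rw [hW₂, Subgroup.map_iSup]
        exact iSup_mono fun j => by
          rintro _ ⟨y, hy, rfl⟩
          exact (hWn j.succ).conj_mem y hy g
      exact hle ⟨x, hx, rfl⟩⟩
    have hsup : W₁ ⊔ W₂ = V := by
      rw [← hWsup]
      refine le_antisymm (sup_le (le_iSup W 0) (iSup_le fun j => le_iSup W j.succ)) (iSup_le fun i => ?_)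
      induction i using Fin.cases with
      | zero => exact le_sup_left
      | succ j => exact le_sup_of_le_right (le_iSup (fun j : Fin (m + 1) => W j.succ) j)
    have hdis : W₁ ⊓ W₂ = ⊥ := eq_bot_iff.2 (by
      rw [← hWdis 0]
      exact inf_le_inf_left _ (iSup_le fun j => le_iSup₂_of_le j.succ (Fin.succ_ne_zero j) le_rfl))
    have h2 : W₂ ≠ ⊥ := fun h0 => hW1 (Fin.succ 0) (eq_bot_iff.2 (h0 ▸ le_iSup (fun j : Fin (m + 1) => W j.succ) 0))
    obtain ⟨M, a, b, hW₂M, hM, ha, hb, hMc, hVc, hMn, hmap, hk, -⟩ :=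
      split_bound hK (by omega) h W₁ W₂ hsup hdis (hW1 0) h2
    obtain rfl : v = a + b := Nat.pow_right_injective hp.out.two_le (hv.symm.trans hVc)
    have hle : ∀ j : Fin (m + 1), W j.succ ≤ M := fun j =>
      (le_iSup (fun j : Fin (m + 1) => W j.succ) j).trans hW₂M
    have hinj := Subgroup.map_injective M.subtype_injective
    have := ih M inferInstance hMn (V.subgroupOf M) hM (fun j => (W j.succ).subgroupOf M)
      (fun j => (hWn j.succ).subgroupOf M)
      (fun j h0 => hW1 j.succ (by rw [← Subgroup.map_subgroupOf_eq_of_le (hle j), h0, Subgroup.map_bot]))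
      (hinj (by
        rw [Subgroup.map_iSup, hmap, hW₂]
        simp only [Subgroup.map_subgroupOf_eq_of_le (hle _)]))
      (fun i => by
        refine hinj ?_
        rw [Subgroup.map_bot, eq_bot_iff]
        refine (Subgroup.map_inf_le _ _ _).trans ?_
        rw [← hWdis i.succ, Subgroup.map_subgroupOf_eq_of_le (hle i)]
        refine inf_le_inf_left _ ?_
        simp only [Subgroup.map_iSup, Subgroup.map_subgroupOf_eq_of_le (hle _)]
        exact iSup₂_le fun j hj => le_iSup₂_of_le j.succ (fun h0 => hj (Fin.succ_inj.1 h0)) le_rfl)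
      b hMc
    rw [← bd_split a b ha hb, pow_succ]
    calc Nat.card (ConjClasses X) * (3 ^ m * 3) ≤ Nat.card (ConjClasses M) * bd p a * (3 ^ m * 3) :=
          Nat.mul_le_mul_right _ hk
      _ = 3 * (bd p a * (Nat.card (ConjClasses M) * 3 ^ m)) := by ring
      _ ≤ 3 * (bd p a * bd p b) := Nat.mul_le_mul_left _ (Nat.mul_le_mul_left _ this)

end CfsgLib.SolvBlock
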