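import Cfsg.Agent.Lib.SolvBlock.Quasi
import Cfsg.Agent.Lib.SolvBlock.Split
import Cfsg.Agent.Lib.KGV.AbelianCriterion
import Cfsg.Agent.Lib.KGV.SelfDualChar
import Cfsg.Agent.Lib.SolvClass.Bound

/-!
# The coprime case `k(V K) ≤ 3 ^ (v - 1) * p ^ v`
-/

set_option autoImplicit false
set_option linter.style.haveILetI false
set_option maxHeartbeats 1600000

namespace CfsgLib.SolvBlock

open Cfsg
open scoped Classical

universe u

variable {p : ℕ} [hp : Fact p.Prime]

/-- The linearisation of a coprime module. -/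
theorem coprime_step {n : ℕ} (hK : BdBelow.{u} n) {X : Type u} [Group X] [Finite X] [Group.IsSolvable X]
    (hn : Nat.card X ≤ n + 1) {V : Subgroup X} (h : CoprimeModule p V) {v : ℕ} (hv : Nat.card V = p ^ v) :
    Nat.card (ConjClasses X) ≤ bd p v := by
  haveI := h.normal
  rcases Nat.eq_zero_or_pos v with rfl | hv1
  · have hV : V = ⊥ := Subgroup.card_eq_one.1 (by simpa using hv)
    have hX : ∀ x : X, x = 1 := fun x => by
      have hx : x ∈ Subgroup.centralizer (V : Set X) := Subgroup.mem_centralizer_iff.2 fun y hy => by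
        rw [hV] at hy
        rw [Subgroup.mem_bot.1 hy, one_mul, mul_one]
      rw [h.self, hV] at hx
      exact Subgroup.mem_bot.1 hx
    haveI : Subsingleton X := ⟨fun a b => by rw [hX a, hX b]⟩
    exact ((classNum_le_card X).trans_eq (Nat.card_of_subsingleton 1)).trans (one_le_bd hp.out.one_le 0)
  obtain ⟨G, hG⟩ := h.exists_complement
  letI : CommGroup V :=
    { Subgroup.toGroup V with mul_comm := fun a b => Subtype.ext (h.comm a a.2 b b.2) }
  haveI : Module (ZMod p) (Additive V) := AddCommGroup.zmodModule (n := p) (fun x => by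
    show Additive.ofMul ((Additive.toMul x) ^ p) = 0
    rw [show (Additive.toMul x) ^ p = 1 from Subtype.ext (h.exp _ (Additive.toMul x).2)]; rfl)
  haveI : Finite (Additive V) := inferInstanceAs (Finite V)
  haveI : Nontrivial (Additive V) := by
    haveI : Nontrivial V := Finite.one_lt_card_iff_nontrivial.1
      (by rw [hv]; exact Nat.one_lt_pow (by omega) hp.out.one_lt)
    exact inferInstanceAs (Nontrivial V)
  let σ : G →* MulAut V := (MulAut.conjNormal (H := V)).comp G.subtype
  let ρ : G →* Module.End (ZMod p) (Additive V) :=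
    { toFun := fun g => AddMonoidHom.toZModLinearMap p (AddMonoidHom.mk'
        (fun x : Additive V => Additive.ofMul (σ g (Additive.toMul x)))
        (fun x y => congrArg Additive.ofMul (map_mul (σ g) _ _)))
      map_one' := LinearMap.ext fun x => by
        show Additive.ofMul (σ 1 (Additive.toMul x)) = x
        rw [map_one]; rfl
      map_mul' := fun g k => LinearMap.ext fun x => by
        show Additive.ofMul (σ (g * k) (Additive.toMul x)) = Additive.ofMul (σ g (σ k (Additive.toMul x)))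
        rw [map_mul]; rfl }
  have hρ : ∀ (g : G) (a : V), ((Additive.toMul (ρ g (Additive.ofMul a)) : V) : X) = (g : X) * a * (g : X)⁻¹ :=
    fun g a => MulAut.conjNormal_apply _ _
  have hinj : Function.Injective ρ := by
    rw [injective_iff_map_eq_one]
    intro g hg
    have hgV : (g : X) ∈ V := by
      rw [← h.self, Subgroup.mem_centralizer_iff]
      intro a ha
      have h1 := hρ g ⟨a, ha⟩
      rw [hg] at h1
      exact mul_inv_eq_iff_eq_mul.1 h1.symm |>.symm
    exact Subtype.ext (Subgroup.disjoint_def.1 hG.disjoint hgV g.2)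
  have hcop : p.Coprime (Nat.card G) := hp.out.coprime_iff_not_dvd.2 fun hd => h.idx (by
    rwa [hG.symm.index_eq_card])
  have hdec : ∀ x : X, ∃ a ∈ V, ∃ g ∈ G, x = a * g := fun x => by
    obtain ⟨⟨⟨a, ha⟩, ⟨g, hg⟩⟩, hx, -⟩ := Subgroup.IsComplement.existsUnique hG x
    exact ⟨a, ha, g, hg, hx.symm⟩
  -- subgroups of `V` from submodules
  let sub : Submodule (ZMod p) (Additive V) → Subgroup X := fun W =>
    { carrier := {x | ∃ hx : x ∈ V, Additive.ofMul (⟨x, hx⟩ : V) ∈ W}
      one_mem' := ⟨V.one_mem, W.zero_mem⟩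
      mul_mem' := fun {a b} ha hb => ⟨V.mul_mem ha.1 hb.1, W.add_mem ha.2 hb.2⟩
      inv_mem' := fun {a} ha => ⟨V.inv_mem ha.1, W.neg_mem ha.2⟩ }
  have hsubV : ∀ W, sub W ≤ V := fun W x hx => hx.1
  have hsubn : ∀ W, (∀ g : G, ∀ x ∈ W, ρ g x ∈ W) → (sub W).Normal := fun W hW => ⟨fun x hx y => by
    obtain ⟨a, ha, g, hg, rfl⟩ := hdec y
    have hg1 : g * x * g⁻¹ ∈ V := h.normal.conj_mem x hx.1 g
    have e : a * g * x * (a * g)⁻¹ = g * x * g⁻¹ := by
      calc a * g * x * (a * g)⁻¹ = a * (g * x * g⁻¹) * a⁻¹ := by group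
        _ = g * x * g⁻¹ := by rw [h.comm a ha _ hg1, mul_inv_cancel_right]
    rw [e]
    exact ⟨hg1, by
      rw [show (⟨g * x * g⁻¹, hg1⟩ : V) = Additive.toMul (ρ ⟨g, hg⟩ (Additive.ofMul ⟨x, hx.1⟩)) from
        Subtype.ext (hρ ⟨g, hg⟩ ⟨x, hx.1⟩).symm]
      exact hW _ _ hx.2⟩⟩
  by_cases hirr : CfsgLib.SolvClass.Irr ρ
  swap
  · obtain ⟨W, hW, hW0, hWt⟩ : ∃ W : Submodule (ZMod p) (Additive V),
        (∀ g : G, ∀ x ∈ W, ρ g x ∈ W) ∧ W ≠ ⊥ ∧ W ≠ ⊤ := by
      unfold CfsgLib.SolvClass.Irr at hirr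
      push Not at hirr
      exact hirr
    cases nonempty_fintype G
    obtain ⟨W', hW', hc⟩ := CfsgLib.KGV.exists_stable_compl (hp.out.coprime_iff_not_dvd.1 hcop) ρ
      (L := W) hW
    haveI := hsubn W hW
    haveI := hsubn W' hW'
    have hne : ∀ W : Submodule (ZMod p) (Additive V), W ≠ ⊥ → sub W ≠ ⊥ := fun W hW h0 => hW (eq_bot_iff.2
      fun x hx => by
        have h1 : ((Additive.toMul x : V) : X) ∈ sub W := ⟨(Additive.toMul x).2, hx⟩
        rw [h0, Subgroup.mem_bot] at h1
        exact (Submodule.mem_bot _).2 (congrArg Additive.ofMul (Subtype.ext h1 : Additive.toMul x = 1)))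
    have hsup : sub W ⊔ sub W' = V := by
      refine le_antisymm (sup_le (hsubV W) (hsubV W')) fun x hx => ?_
      obtain ⟨y, hy, y', hy', e⟩ := Submodule.mem_sup.1
        (hc.sup_eq_top ▸ Submodule.mem_top : Additive.ofMul (⟨x, hx⟩ : V) ∈ W ⊔ W')
      have e' : ((Additive.toMul y : V) : X) * (Additive.toMul y' : V) = x :=
        congrArg (fun t : Additive V => ((Additive.toMul t : V) : X)) e
      rw [← e']
      exact Subgroup.mul_mem_sup ⟨_, hy⟩ ⟨_, hy'⟩
    have hdis : sub W ⊓ sub W' = ⊥ := eq_bot_iff.2 fun x hx => by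
      obtain ⟨⟨hx1, h1⟩, ⟨hx2, h2⟩⟩ := Subgroup.mem_inf.1 hx
      have h3 : Additive.ofMul (⟨x, hx1⟩ : V) ∈ W ⊓ W' := ⟨h1, h2⟩
      rw [hc.inf_eq_bot, Submodule.mem_bot] at h3
      exact Subgroup.mem_bot.2 (congrArg (fun t : Additive V => ((Additive.toMul t : V) : X)) h3)
    have hW'0 : W' ≠ ⊥ := fun h0 => hWt (by
      have := hc.sup_eq_top
      rwa [h0, sup_bot_eq] at this)
    obtain ⟨M, a, b, -, -, ha, hb, -, hVc, -, -, hk1, hk2⟩ :=
      split_bound hK hn h (sub W) (sub W') hsup hdis (hne W hW0) (hne W' hW'0)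
    obtain rfl : v = a + b := Nat.pow_right_injective hp.out.two_le (hv.symm.trans hVc)
    refine hk1.trans ?_
    rw [← bd_split a b ha hb]
    calc Nat.card (ConjClasses M) * bd p a ≤ bd p b * bd p a := Nat.mul_le_mul_right _ hk2
      _ = bd p a * bd p b := mul_comm _ _
      _ ≤ 3 * (bd p a * bd p b) := Nat.le_mul_of_pos_left _ (by norm_num)
  -- a maximal abelian normal subgroup
  obtain ⟨A, hA⟩ := (Set.toFinite {B : Subgroup G | B.Normal ∧ ∀ a ∈ B, ∀ b ∈ B, a * b = b * a}).exists_maximal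
    ⟨⊥, inferInstance, fun a ha b hb => by rw [Subgroup.mem_bot.1 ha, Subgroup.mem_bot.1 hb]⟩
  obtain ⟨⟨hAn, hAc⟩, hAmax⟩ := hA
  haveI := hAn
  rcases blocks_or_field ρ hinj hirr hcop A hAc with ⟨⟨B⟩⟩ | ⟨z, w, hF⟩
  · -- imprimitive
    letI := B.fintypeP
    haveI := B.nontrivialP
    set N := B.perm.ker
    set XN := V ⊔ N.map G.subtype with hXN
    haveI : XN.Normal := ⟨fun x hx y => by
      obtain ⟨a, ha, m, hm, rfl⟩ := Subgroup.mem_sup_of_normal_left.1 hx
      obtain ⟨k, hk, rfl⟩ := hm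
      obtain ⟨b, hb, g, hg, rfl⟩ := hdec y
      have hk' : g * (k : X) * g⁻¹ ∈ N.map G.subtype :=
        ⟨⟨g, hg⟩ * k * ⟨g, hg⟩⁻¹, (inferInstance : N.Normal).conj_mem k hk _, rfl⟩
      have e : b * g * (a * (k : X)) * (b * g)⁻¹ = b * (g * a * g⁻¹) * (g * (k : X) * g⁻¹) * b⁻¹ := by group
      show b * g * (a * G.subtype k) * (b * g)⁻¹ ∈ XN
      rw [show G.subtype k = (k : X) from rfl, e]
      exact XN.mul_mem (XN.mul_mem (XN.mul_mem (Subgroup.mem_sup_left hb)
        (Subgroup.mem_sup_left (h.normal.conj_mem a ha g))) (Subgroup.mem_sup_right hk'))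
        (XN.inv_mem (Subgroup.mem_sup_left hb))⟩
    set S := Nat.card B.perm.range
    set m := Fintype.card B.P with hm
    have hm1 : 1 < m := Fintype.one_lt_card
    have hidxN : N.index = S := Subgroup.index_ker B.perm
    have htr : MulAction.IsPretransitive B.perm.range B.P := ⟨fun e e' => by
      obtain ⟨g, hg⟩ := B.transitive e e'
      exact ⟨⟨B.perm g, g, rfl⟩, hg⟩⟩
    have hS : S ≤ 3 ^ (m - 1) := by
      haveI : Group.IsSolvable B.perm.range := Group.isSolvable_of_surjective B.perm.rangeRestrict_surjective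
      haveI : FaithfulSMul B.perm.range B.P := ⟨fun {a b} hab => Subtype.ext (Equiv.ext hab)⟩
      have h3 := CfsgLib.SolvClass.card_solvable_transitive_pow_le m (G := B.perm.range) (X := B.P) htr
        Nat.card_eq_fintype_card (by omega)
      refine (Nat.pow_le_pow_iff_left (n := 3) (by norm_num)).1 (h3.trans ?_)
      rw [← pow_mul, mul_comm (m - 1) 3, pow_mul]
      exact Nat.pow_le_pow_left (by norm_num) _
    have hidx : XN.index ≤ S := by
      rw [← hidxN, Subgroup.index_eq_card, Subgroup.index_eq_card]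
      refine Nat.card_le_card_of_surjective
        (Quotient.map' (fun g : G => (g : X)) fun a b hab => ?_) fun q => ?_
      · rw [QuotientGroup.leftRel_apply] at hab ⊢
        exact Subgroup.mem_sup_right ⟨_, hab, rfl⟩
      · obtain ⟨y, rfl⟩ := QuotientGroup.mk_surjective q
        obtain ⟨a, ha, g, hg, rfl⟩ := hdec y
        refine ⟨QuotientGroup.mk ⟨g, hg⟩, ?_⟩
        show (QuotientGroup.mk g : X ⧸ XN) = QuotientGroup.mk (a * g)
        rw [QuotientGroup.eq, show g⁻¹ * (a * g) = g⁻¹ * a * g by group]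
        have h4 := h.normal.conj_mem a ha g⁻¹
        rw [inv_inv] at h4
        exact Subgroup.mem_sup_left h4
    have hNtop : N ≠ ⊤ := fun h0 => by
      obtain ⟨e, e', hne⟩ := exists_pair_ne B.P
      obtain ⟨g, hg⟩ := B.transitive e e'
      have : B.perm g = 1 := MonoidHom.mem_ker.1 (h0 ▸ Subgroup.mem_top g : g ∈ N)
      rw [this] at hg
      exact hne hg
    have hXNlt : Nat.card XN ≤ n := by
      have hlt : Nat.card XN < Nat.card X := lt_of_le_of_ne (Subgroup.card_le_card_group _) fun h0 => hNtop (by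
        refine eq_top_iff.2 fun g _ => ?_
        have hgX : (g : X) ∈ XN := (Subgroup.eq_top_of_card_eq _ h0) ▸ Subgroup.mem_top _
        obtain ⟨a, ha, k, hk, e⟩ := Subgroup.mem_sup_of_normal_left.1 hgX
        obtain ⟨k, hk, rfl⟩ := hk
        have : a = 1 := Subgroup.disjoint_def.1 hG.disjoint ha (by
          rw [show a = (g : X) * (k : X)⁻¹ from eq_mul_inv_of_mul_eq e]
          exact G.mul_mem g.2 (G.inv_mem k.2))
        rw [this, one_mul] at e
        rwa [← Subtype.ext (e : ((k : G) : X) = g)])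
      omega
    have hVN : V ≤ XN := le_sup_left
    have hmodN : CoprimeModule p (V.subgroupOf XN) := ⟨inferInstance, fun x hx => Subtype.ext (h.exp _ hx),
      fun hd => h.idx (hd.trans (Subgroup.relIndex_dvd_index_of_normal (H := V) (K := XN))), by
        refine le_antisymm (fun x hx => ?_) (fun x hx => Subgroup.mem_centralizer_iff.2
          fun y hy => Subtype.ext (h.comm _ hy _ hx))
        rw [Subgroup.mem_subgroupOf, ← h.self, Subgroup.mem_centralizer_iff]
        exact fun y hy => congrArg Subtype.val (Subgroup.mem_centralizer_iff.1 hx ⟨y, hVN hy⟩ hy)⟩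
    obtain ⟨m', hm'⟩ : ∃ m', m = m' + 1 := ⟨m - 1, by omega⟩
    let en : Fin (m' + 1) ≃ B.P := (Fin.castOrderIso hm'.symm).toEquiv.trans (Fintype.equivFin B.P).symm
    let WM : B.P → Submodule (ZMod p) (Additive V) := fun e => LinearMap.range (B.E e)
    have hWfix : ∀ e x, x ∈ WM e ↔ B.E e x = x := fun e x => by
      constructor
      · rintro ⟨y, rfl⟩
        rw [← Module.End.mul_apply, B.idem]
      · exact fun hx => ⟨x, hx⟩
    have hWle : ∀ e, sub (WM e) ≤ XN := fun e => (hsubV _).trans hVN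
    have hpie := pieces_bound hK m' XN inferInstance hXNlt (V.subgroupOf XN) hmodN
      (fun i => (sub (WM (en i))).subgroupOf XN) (fun i => ⟨fun x hx y => by
        rw [Subgroup.mem_subgroupOf] at hx ⊢
        obtain ⟨a, ha, k, hk, hy⟩ := Subgroup.mem_sup_of_normal_left.1 y.2
        obtain ⟨k, hk, rfl⟩ := hk
        have hx1 : (x : X) ∈ V := hx.1
        have hkx : (k : X) * x * (k : X)⁻¹ ∈ V := h.normal.conj_mem _ hx1 _
        have e : ((y * x * y⁻¹ : XN) : X) = (k : X) * x * (k : X)⁻¹ := by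
          show (y : X) * x * (y : X)⁻¹ = _
          rw [← hy, show G.subtype k = (k : X) from rfl]
          calc a * (k : X) * x * (a * (k : X))⁻¹ = a * ((k : X) * x * (k : X)⁻¹) * a⁻¹ := by group
            _ = _ := by rw [h.comm a ha _ hkx, mul_inv_cancel_right]
        rw [e]
        refine ⟨hkx, ?_⟩
        rw [show (⟨(k : X) * x * (k : X)⁻¹, hkx⟩ : V) = Additive.toMul (ρ k (Additive.ofMul ⟨x, hx1⟩)) from
          Subtype.ext (hρ k ⟨x, hx1⟩).symm]
        refine (hWfix _ _).2 ?_
        have hEk : B.E (en i) = ρ k * B.E (en i) * ρ k⁻¹ := by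
          conv_lhs => rw [show en i = B.perm k (en i) by rw [MonoidHom.mem_ker.1 hk]; rfl]
          exact B.equivariant k (en i)
        show B.E (en i) (ρ k (Additive.ofMul ⟨x, hx1⟩)) = ρ k (Additive.ofMul ⟨x, hx1⟩)
        rw [hEk, Module.End.mul_apply, Module.End.mul_apply, ← Module.End.mul_apply (ρ k⁻¹),
          CfsgLib.SolvClass.rho_inv_mul, Module.End.one_apply, (hWfix _ _).1 hx.2]⟩)
      (fun i h0 => B.ne_zero (en i) (LinearMap.range_eq_bot.1 (eq_bot_iff.2 fun x hx => by
        have h1 : ((Additive.toMul x : V) : X) ∈ sub (WM (en i)) := ⟨(Additive.toMul x).2, hx⟩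
        rw [← Subgroup.map_subgroupOf_eq_of_le (hWle (en i)), h0, Subgroup.map_bot, Subgroup.mem_bot] at h1
        exact (Submodule.mem_bot _).2 (congrArg Additive.ofMul (Subtype.ext h1 : Additive.toMul x = 1)))))
      (Subgroup.map_injective XN.subtype_injective (by
        rw [Subgroup.map_iSup, Subgroup.map_subgroupOf_eq_of_le hVN]
        simp only [Subgroup.map_subgroupOf_eq_of_le (hWle _)]
        refine le_antisymm (iSup_le fun i => hsubV _) fun x hx => ?_
        have hx' : Additive.ofMul (⟨x, hx⟩ : V) = ∑ e, B.E e (Additive.ofMul (⟨x, hx⟩ : V)) := by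
          rw [← LinearMap.sum_apply, B.sum]; rfl
        have hval : x = ((Additive.toMul (∑ e, B.E e (Additive.ofMul (⟨x, hx⟩ : V))) : V) : X) := by
          rw [← hx']; rfl
        rw [hval]
        refine Finset.sum_induction _ (fun t : Additive V => ((Additive.toMul t : V) : X) ∈
          ⨆ i, sub (WM (en i))) (fun a b ha hb => Subgroup.mul_mem _ ha hb) (Subgroup.one_mem _) fun e _ => ?_
        refine Subgroup.mem_iSup_of_mem (en.symm e) ?_
        rw [Equiv.apply_symm_apply]
        exact ⟨(Additive.toMul (B.E e (Additive.ofMul (⟨x, hx⟩ : V)))).2, _, rfl⟩))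
      (fun i => by
        refine Subgroup.map_injective XN.subtype_injective ?_
        rw [Subgroup.map_bot, eq_bot_iff]
        refine (Subgroup.map_inf_le _ _ _).trans ?_
        simp only [Subgroup.map_iSup, Subgroup.map_subgroupOf_eq_of_le (hWle _)]
        intro x hx
        obtain ⟨⟨hx1, hxi⟩, hx2⟩ := Subgroup.mem_inf.1 hx
        have hker : ∀ y ∈ ⨆ j ∈ {j | j ≠ i}, sub (WM (en j)),
            ∃ hy : y ∈ V, B.E (en i) (Additive.ofMul (⟨y, hy⟩ : V)) = 0 := by
          intro y hy
          have hle : (⨆ j ∈ {j | j ≠ i}, sub (WM (en j))) ≤ sub (LinearMap.ker (B.E (en i))) :=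
            iSup₂_le fun j hj t ht => ⟨ht.1, LinearMap.mem_ker.2 (by
              rw [← (hWfix _ _).1 ht.2, ← Module.End.mul_apply,
                B.orth _ _ (fun h0 => hj (en.injective h0).symm), LinearMap.zero_apply])⟩
          exact ⟨(hle hy).1, LinearMap.mem_ker.1 (hle hy).2⟩
        obtain ⟨_, h0⟩ := hker x hx2
        rw [(hWfix _ _).1 hxi] at h0
        exact Subgroup.mem_bot.2 (congrArg (fun t : Additive V => ((Additive.toMul t : V) : X)) h0))
      v ((Nat.card_congr (Subgroup.subgroupOfEquivOfLe hVN).toEquiv).trans hv)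
    calc Nat.card (ConjClasses X) ≤ Nat.card (ConjClasses XN) * XN.index := classNum_le_mul_index XN
      _ ≤ Nat.card (ConjClasses XN) * 3 ^ m' := Nat.mul_le_mul_left _ (hidx.trans (hS.trans_eq (by rw [hm']; simp)))
      _ ≤ bd p v := hpie
  · -- quasiprimitive
    have hKG : BdBelow.{u} (Nat.card G) := fun Y _ _ hY hle => hK Y hY (hle.trans (by
      have h1 : Nat.card X = Nat.card V * Nat.card G := hG.card_mul.symm
      have h2 : 2 ≤ Nat.card V := by rw [hv]; exact le_trans hp.out.two_le (Nat.le_self_pow (by omega) p)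
      have h3 : 0 < Nat.card G := Nat.card_pos
      nlinarith))
    obtain ⟨M, hMn, hAM, hcom, hkM⟩ := exists_layer ρ hKG A hAc
      (fun B hBn hBc hle => le_antisymm (hAmax ⟨hBn, hBc⟩ hle) hle) hF
    haveI := hMn
    set XM := V ⊔ M.map G.subtype with hXM
    haveI : XM.Normal := ⟨fun x hx y => by
      obtain ⟨a, ha, m, hm, rfl⟩ := Subgroup.mem_sup_of_normal_left.1 hx
      obtain ⟨k, hk, rfl⟩ := hm
      obtain ⟨b, hb, g, hg, rfl⟩ := hdec y
      have hk' : g * (k : X) * g⁻¹ ∈ M.map G.subtype :=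
        ⟨⟨g, hg⟩ * k * ⟨g, hg⟩⁻¹, hMn.conj_mem k hk _, rfl⟩
      have e : b * g * (a * (k : X)) * (b * g)⁻¹ = b * (g * a * g⁻¹) * (g * (k : X) * g⁻¹) * b⁻¹ := by group
      show b * g * (a * G.subtype k) * (b * g)⁻¹ ∈ XM
      rw [show G.subtype k = (k : X) from rfl, e]
      exact XM.mul_mem (XM.mul_mem (XM.mul_mem (Subgroup.mem_sup_left hb)
        (Subgroup.mem_sup_left (h.normal.conj_mem a ha g))) (Subgroup.mem_sup_right hk'))
        (XM.inv_mem (Subgroup.mem_sup_left hb))⟩
    have hVM : V ≤ XM := le_sup_left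
    obtain ⟨x₀, hx₀⟩ := exists_ne (0 : Additive V)
    let x₁ : XM := ⟨((Additive.toMul x₀ : V) : X), hVM (Additive.toMul x₀).2⟩
    have hkXM : Nat.card (ConjClasses XM) ≤ Nat.card V := by
      refine (CfsgLib.KGV.class_number_le_of_abelian_stabilizer p (V.subgroupOf XM)
        (fun x hx => Subtype.ext (h.exp _ hx))
        (fun hd => h.idx (hd.trans (Subgroup.relIndex_dvd_index_of_normal (H := V) (K := XM)))) ?_
        ((M.map G.subtype).subgroupOf XM) ?_ x₁ (Additive.toMul x₀).2 ?_).trans_eq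
        (Nat.card_congr (Subgroup.subgroupOfEquivOfLe hVM).toEquiv)
      · refine le_antisymm (fun x hx => ?_) (fun x hx => Subgroup.mem_centralizer_iff.2
          fun y hy => Subtype.ext (h.comm _ hy _ hx))
        rw [Subgroup.mem_subgroupOf, ← h.self, Subgroup.mem_centralizer_iff]
        exact fun y hy => congrArg Subtype.val (Subgroup.mem_centralizer_iff.1 hx ⟨y, hVM hy⟩ hy)
      · refine Subgroup.isComplement'_of_disjoint_and_mul_eq_univ ?_ ?_
        · rw [Subgroup.disjoint_def]
          intro x hx hx'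
          obtain ⟨k, -, hk⟩ := hx'
          exact Subtype.ext (Subgroup.disjoint_def.1 hG.disjoint hx ((show (k : X) = (x : X) from hk) ▸ k.2))
        · refine Set.eq_univ_of_forall fun x => ?_
          obtain ⟨a, ha, k, hk, e⟩ := Subgroup.mem_sup_of_normal_left.1 x.2
          exact ⟨⟨a, hVM ha⟩, ha, ⟨k, Subgroup.mem_sup_right hk⟩, hk, Subtype.ext e⟩
      · intro a ha b hb
        obtain ⟨ha1, ha2⟩ := Subgroup.mem_inf.1 ha
        obtain ⟨hb1, hb2⟩ := Subgroup.mem_inf.1 hb
        obtain ⟨a', ha', eA⟩ := ha1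
        obtain ⟨b', hb', eB⟩ := hb1
        have hfixc : ∀ (c : G) (c' : XM), (c : X) = (c' : X) → c' ∈ Subgroup.centralizer ({x₁} : Set XM) →
            ρ c x₀ = x₀ := fun c c' hc hc' => by
          refine congrArg Additive.ofMul (Subtype.ext ?_ : Additive.toMul (ρ c x₀) = Additive.toMul x₀)
          rw [show x₀ = Additive.ofMul (Additive.toMul x₀) from rfl, hρ, hc]
          exact mul_inv_eq_iff_eq_mul.2 (congrArg Subtype.val (Subgroup.mem_centralizer_singleton_iff.1 hc'))
        have h1 : ρ (a' * b' * a'⁻¹ * b'⁻¹) x₀ = x₀ := by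
          have hiA := hfixc a'⁻¹ a⁻¹ (by push_cast; rw [show (a' : X) = (a : X) from eA]) (inv_mem ha2)
          have hiB := hfixc b'⁻¹ b⁻¹ (by push_cast; rw [show (b' : X) = (b : X) from eB]) (inv_mem hb2)
          rw [map_mul, map_mul, map_mul, Module.End.mul_apply, Module.End.mul_apply, Module.End.mul_apply,
            hiB, hiA, hfixc b' b eB hb2, hfixc a' a eA ha2]
        have h2 := hF.fixfree _ (hcom a' ha' b' hb') x₀ hx₀ h1
        have h3 : a' * b' = b' * a' := by
          calc a' * b' = (a' * b' * a'⁻¹ * b'⁻¹) * (b' * a') := by group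
            _ = b' * a' := by rw [h2, one_mul]
        refine Subtype.ext ?_
        show (a : X) * b = b * a
        rw [← show (a' : X) = (a : X) from eA, ← show (b' : X) = (b : X) from eB]
        exact congrArg Subtype.val h3
    let π : G ⧸ M →* X ⧸ XM := QuotientGroup.map M XM G.subtype
      (fun k hk => Subgroup.mem_sup_right ⟨k, hk, rfl⟩)
    have hπ : Function.Surjective π := fun q => by
      obtain ⟨y, rfl⟩ := QuotientGroup.mk'_surjective XM q
      obtain ⟨a, ha, g, hg, rfl⟩ := hdec y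
      refine ⟨QuotientGroup.mk ⟨g, hg⟩, ?_⟩
      show QuotientGroup.mk' XM g = QuotientGroup.mk' XM (a * g)
      rw [map_mul, QuotientGroup.mk'_apply XM a, (QuotientGroup.eq_one_iff a).2 (Subgroup.mem_sup_left ha), one_mul]
    have hzw : v = z * w := by
      apply Nat.pow_right_injective hp.out.two_le
      show p ^ v = p ^ (z * w)
      rw [← hv, ← hF.card_space]
      exact Nat.card_congr Additive.ofMul
    refine (classNum_le_mul XM).trans ?_
    refine (Nat.mul_le_mul hkXM ((CfsgLib.SolvClass.card_conjClasses_le_of_surjective hπ).trans hkM)).trans ?_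
    rw [hv, hzw, bd, mul_comm]

end CfsgLib.SolvBlock
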