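import Cfsg.Agent.Lib.SolvClass.Frame

/-!
# Abelian normal subgroups of coprime linear groups: blocks, or a field
-/

set_option autoImplicit false
set_option linter.style.haveILetI false
set_option linter.unusedSectionVars false
set_option maxHeartbeats 1000000

namespace CfsgLib.SolvBlock

open Subgroup CfsgLib.SolvClass

universe u v

variable {p : ℕ} [hp : Fact p.Prime] {V : Type u} [AddCommGroup V] [Module (ZMod p) V] [Finite V] [Nontrivial V]
variable {G : Type v} [Group G] [Finite G] (ρ : G →* Module.End (ZMod p) V)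

/-- A system of blocks of imprimitivity, given by projections. -/
structure Blocks where
  P : Type u
  fintypeP : Fintype P
  E : P → Module.End (ZMod p) V
  nontrivialP : Nontrivial P
  ne_zero : ∀ e, E e ≠ 0
  orth : ∀ e e', e ≠ e' → E e * E e' = 0
  idem : ∀ e, E e * E e = E e
  sum : letI := fintypeP; ∑ e, E e = 1
  perm : G →* Equiv.Perm P
  equivariant : ∀ g e, E (perm g e) = ρ g * E e * ρ g⁻¹
  transitive : ∀ e e', ∃ g, perm g e = e'

/-- The data attached to an abelian normal subgroup spanning a field of degree `z`,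
over which the space has dimension `w`. -/
structure FieldData (A : Subgroup G) (z w : ℕ) : Prop where
  card_space : Nat.card V = p ^ (z * w)
  z_pos : 1 ≤ z
  w_pos : 1 ≤ w
  cyclic : IsCyclic A
  fixfree : ∀ a ∈ A, ∀ x : V, x ≠ 0 → ρ a x = x → a = 1
  index_le : (centralizer (A : Set G)).index ≤ z
  card_le : ∀ M : Subgroup G, M ≤ centralizer (A : Set G) → A ≤ M →
    (∀ x ∈ M, ∀ y ∈ M, x * y * x⁻¹ * y⁻¹ ∈ A) →
    (∀ x ∈ M, (∀ y ∈ M, x * y = y * x) → x ∈ A) →
    Nat.card (M ⧸ A.subgroupOf M) ≤ w * w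

/-- Operators moved by distinct multipliers are independent, over a field of operators. -/
theorem card_le_of_multipliers (K : Type u) [Field K] [Finite K] (ι : K →+* Module.End (ZMod p) V)
    {z : ℕ} (hK : Nat.card K = p ^ z) :
    ∃ w, 1 ≤ w ∧ Nat.card V = p ^ (z * w) ∧
      ∀ {I : Type v} [Finite I] {M : Type v} [Monoid M] (t : I → Module.End (ZMod p) V)
        (S : M →* Module.End (ZMod p) V) (χ : I → (M →* K)),
        (∀ i r, t i * ι r = ι r * t i) → (∀ y r, S y * ι r = ι r * S y) →
        (∀ i x, t i x = 0 → x = 0) → (∀ y x, ∃ x', S y x' = x) →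
        (∀ i y, S y * t i = ι (χ i y) * (t i * S y)) → Function.Injective χ →
        Nat.card I ≤ w * w := by
  classical
  letI : Module K V := Module.compHom V ι
  have hsmul : ∀ (r : K) (x : V), r • x = ι r x := fun _ _ => rfl
  haveI : FiniteDimensional K V := Module.Finite.of_finite
  refine ⟨Module.finrank K V, Module.finrank_pos, by
    rw [Module.natCard_eq_pow_finrank (K := K), hK, pow_mul], ?_⟩
  intro I _ M _ t S χ htK hSK htinj hSsurj hrel hχ
  letI : Fintype I := Fintype.ofFinite I
  let T : I → (V →ₗ[K] V) := fun i =>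
    { toFun := fun x => t i x
      map_add' := map_add _
      map_smul' := fun r x => by
        show t i (ι r x) = ι r (t i x)
        rw [← Module.End.mul_apply, htK, Module.End.mul_apply] }
  have hT : ∀ i x, T i x = t i x := fun _ _ => rfl
  have hli : LinearIndependent K T := by
    rw [Fintype.linearIndependent_iff]
    intro a ha i
    by_contra hai
    obtain ⟨x, hx⟩ := exists_ne (0 : V)
    obtain ⟨φ, hφ⟩ : ∃ φ : Module.Dual K V, φ (T i x) ≠ 0 := by
      by_contra! h
      exact hx (htinj i x ((Module.forall_dual_apply_eq_zero_iff K _).1 h))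
    have hall : ∀ y : M, ∑ j, a j * φ (T j x) * χ j y = 0 := by
      intro y
      obtain ⟨x', hx'⟩ := hSsurj y x
      have h1 : ∑ j, (a j * χ j y) • T j x = 0 := by
        have h2 := congrArg (fun f : V →ₗ[K] V => S y (f x')) ha
        simp only [LinearMap.sum_apply, LinearMap.smul_apply, LinearMap.zero_apply, map_zero, map_sum] at h2
        rw [← h2]
        refine Finset.sum_congr rfl fun j _ => ?_
        rw [hsmul, hsmul, hT, hT, ← Module.End.mul_apply (S y), hSK, Module.End.mul_apply,
          ← Module.End.mul_apply (S y), hrel, map_mul, Module.End.mul_apply, Module.End.mul_apply,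
          Module.End.mul_apply, hx']
      have := congrArg φ h1
      rw [map_sum, map_zero] at this
      rw [← this]
      exact Finset.sum_congr rfl fun j _ => by rw [map_smul, smul_eq_mul]; ring
    have hd := (linearIndependent_monoidHom M K).comp χ hχ
    rw [Fintype.linearIndependent_iff] at hd
    have h0 := hd (fun j => a j * φ (T j x)) (funext fun y => by
      simpa [Finset.sum_apply] using hall y) i
    exact hφ ((mul_eq_zero.1 h0).resolve_left hai)
  have := hli.fintype_card_le_finrank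
  rwa [Module.finrank_linearMap, ← Nat.card_eq_fintype_card] at this

/-- An abelian normal subgroup gives blocks or spans a field. -/
theorem blocks_or_field (hinj : Function.Injective ρ) (hirr : Irr ρ) (hcop : p.Coprime (Nat.card G))
    (A : Subgroup G) [hA : A.Normal] (hAc : ∀ a ∈ A, ∀ b ∈ A, a * b = b * a) :
    Nonempty (Blocks ρ) ∨ ∃ z w, FieldData ρ A z w := by
  classical
  haveI : Finite (Module.End (ZMod p) V) := Finite.of_injective (fun f => (f : V → V)) DFunLike.coe_injective
  have hcopA : p.Coprime (Nat.card A) := hcop.coprime_dvd_right (Subgroup.card_subgroup_dvd_card A)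
  have hpow : ∀ a ∈ A, a ^ (p ^ Nat.totient (Nat.card A)) = a := by
    intro a ha
    have h1 : p ^ Nat.totient (Nat.card A) ≡ 1 [MOD Nat.card A] := Nat.ModEq.pow_totient hcopA
    have h2 : p ^ Nat.totient (Nat.card A) ≡ 1 [MOD orderOf a] :=
      h1.of_dvd (A.orderOf_dvd_natCard ha)
    simpa using pow_eq_pow_iff_modEq.2 h2
  set R := Algebra.adjoin (ZMod p) (ρ '' (A : Set G)) with hR
  obtain ⟨hcomm, hfix⟩ := adjoin_fixed (s := ρ '' (A : Set G)) (m := Nat.totient (Nat.card A))
    (by rintro _ ⟨a, ha, rfl⟩ _ ⟨b, hb, rfl⟩; rw [← map_mul, ← map_mul, hAc a ha b hb])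
    (by rintro _ ⟨a, ha, rfl⟩; rw [← map_pow, hpow a ha])
  have hinv : ∀ h : G, ∀ a ∈ R, ρ h * a * ρ h⁻¹ ∈ R := by
    intro h a ha
    induction ha using Algebra.adjoin_induction with
    | mem x hx =>
      obtain ⟨b, hb, rfl⟩ := hx
      rw [← rho_conj]
      exact Algebra.subset_adjoin ⟨_, hA.conj_mem b hb h, rfl⟩
    | algebraMap c =>
      rw [← Algebra.commutes c (ρ h), mul_assoc, rho_mul_inv, mul_one]
      exact Subalgebra.algebraMap_mem _ c
    | add x y _ _ hx hy => rw [mul_add, add_mul]; exact add_mem hx hy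
    | mul x y _ _ hx hy =>
      have : ρ h * (x * y) * ρ h⁻¹ = ρ h * x * ρ h⁻¹ * (ρ h * y * ρ h⁻¹) := by
        simp only [mul_assoc]
        rw [← mul_assoc (ρ h⁻¹) (ρ h), rho_inv_mul, one_mul]
      rw [this]
      exact mul_mem hx hy
  letI : CommRing R := { (inferInstance : Ring R) with mul_comm := fun a b => Subtype.ext (hcomm _ a.2 _ b.2) }
  haveI : Finite R := Finite.of_injective _ Subtype.val_injective
  have hN : 2 ≤ p ^ Nat.totient (Nat.card A) :=
    le_trans hp.out.two_le (Nat.le_self_pow (Nat.totient_pos.2 Nat.card_pos).ne' p)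
  have hfixR : ∀ r : R, r ^ (p ^ Nat.totient (Nat.card A)) = r :=
    fun r => Subtype.ext (by rw [SubmonoidClass.coe_pow]; exact hfix _ r.2)
  let conjR : G → R →ₐ[ZMod p] R := fun h =>
    { toFun := fun r => ⟨ρ h * (r : Module.End (ZMod p) V) * ρ h⁻¹, hinv h _ r.2⟩
      map_one' := Subtype.ext (by show ρ h * 1 * ρ h⁻¹ = 1; rw [mul_one, rho_mul_inv])
      map_mul' := fun r s => Subtype.ext (by
        show ρ h * ((r : Module.End (ZMod p) V) * s) * ρ h⁻¹ =
          ρ h * r * ρ h⁻¹ * (ρ h * s * ρ h⁻¹)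
        simp only [mul_assoc]
        rw [← mul_assoc (ρ h⁻¹) (ρ h), rho_inv_mul, one_mul])
      map_zero' := Subtype.ext (by show ρ h * 0 * ρ h⁻¹ = 0; simp)
      map_add' := fun r s => Subtype.ext (by
        show ρ h * ((r : Module.End (ZMod p) V) + s) * ρ h⁻¹ = ρ h * r * ρ h⁻¹ + ρ h * s * ρ h⁻¹
        rw [mul_add, add_mul])
      commutes' := fun c => Subtype.ext (by
        show ρ h * algebraMap (ZMod p) (Module.End (ZMod p) V) c * ρ h⁻¹ = _
        rw [← Algebra.commutes c (ρ h), mul_assoc, rho_mul_inv, mul_one]; rfl) }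
  have hconj_mul : ∀ (g h : G) (r : R), conjR (g * h) r = conjR g (conjR h r) := fun g h r => Subtype.ext (by
    show ρ (g * h) * (r : Module.End (ZMod p) V) * ρ (g * h)⁻¹ = ρ g * (ρ h * r * ρ h⁻¹) * ρ g⁻¹
    rw [_root_.mul_inv_rev, map_mul, map_mul]; simp only [mul_assoc])
  have hconj_one : ∀ r : R, conjR 1 r = r := fun r => Subtype.ext (by
    show ρ 1 * (r : Module.End (ZMod p) V) * ρ 1⁻¹ = r; simp)
  let P := {e : R // IsAtomI e}
  haveI : Fintype P := Fintype.ofFinite P
  have hact : ∀ (h : G) (e : R), IsAtomI e → IsAtomI (conjR h e) := by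
    intro h e he
    refine ⟨by rw [← map_mul, he.1], fun h0 => he.2.1 ?_, fun x hx hxe => ?_⟩
    · have := congrArg (conjR h⁻¹) h0
      rwa [map_zero, ← hconj_mul, inv_mul_cancel, hconj_one] at this
    · have h1 : conjR h⁻¹ x * e = conjR h⁻¹ x := by
        conv_rhs => rw [← hxe, map_mul, ← hconj_mul, inv_mul_cancel, hconj_one]
      rcases he.2.2 (conjR h⁻¹ x) (by rw [← map_mul, hx]) h1 with h2 | h2
      · left
        have := congrArg (conjR h) h2
        rwa [map_zero, ← hconj_mul, mul_inv_cancel, hconj_one] at this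
      · right
        have := congrArg (conjR h) h2
        rwa [← hconj_mul, mul_inv_cancel, hconj_one] at this
  letI : MulAction G P :=
    { smul := fun h e => ⟨conjR h e.1, hact h e.1 e.2⟩
      one_smul := fun e => Subtype.ext (hconj_one e.1)
      mul_smul := fun g h e => Subtype.ext (hconj_mul g h e.1) }
  let E : P → Module.End (ZMod p) V := fun e => ((e : R) : Module.End (ZMod p) V)
  have hEE : ∀ e, E e * E e = E e := fun e => congrArg Subtype.val e.2.1
  have hEne : ∀ e, E e ≠ 0 := fun e h => e.2.2.1 (Subtype.ext h)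
  have hEh : ∀ (h : G) (e : P), E (h • e) = ρ h * E e * ρ h⁻¹ := fun _ _ => rfl
  have hEorth : ∀ e e' : P, e ≠ e' → E e * E e' = 0 := fun e e' h =>
    congrArg Subtype.val (atom_mul_eq_zero e.2 e'.2 fun h' => h (Subtype.ext h'))
  have hEsum : ∑ e : P, E e = 1 := by
    have := congrArg Subtype.val (sum_atoms (R := R))
    rwa [AddSubmonoidClass.coe_finsetSum] at this
  by_cases hP : Nontrivial P
  · left
    refine ⟨⟨P, inferInstance, E, hP, hEne, hEorth, hEE, hEsum, MulAction.toPermHom G P, hEh, fun e₀ e => ?_⟩⟩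
    suffices h : e ∈ MulAction.orbit G e₀ by
      obtain ⟨g, hg⟩ := h
      exact ⟨g, hg⟩
    set O := (Finset.univ : Finset P).filter (fun e => e ∈ MulAction.orbit G e₀)
    set ε := ∑ e ∈ O, E e with hε
    have hεh : ∀ h : G, ρ h * ε * ρ h⁻¹ = ε := by
      intro h
      rw [hε, Finset.mul_sum, Finset.sum_mul]
      refine Finset.sum_nbij' (fun e => h • e) (fun e => h⁻¹ • e) ?_ ?_ ?_ ?_ ?_
      · intro e he
        simp only [O, Finset.mem_filter, Finset.mem_univ, true_and, Finset.mem_coe] at he ⊢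
        exact MulAction.mem_orbit_of_mem_orbit h he
      · intro e he
        simp only [O, Finset.mem_filter, Finset.mem_univ, true_and, Finset.mem_coe] at he ⊢
        exact MulAction.mem_orbit_of_mem_orbit h⁻¹ he
      · intro e _; exact inv_smul_smul h e
      · intro e _; exact smul_inv_smul h e
      · intro e _; exact (hEh h e).symm
    have he₀O : e₀ ∈ O := Finset.mem_filter.2 ⟨Finset.mem_univ _, MulAction.mem_orbit_self e₀⟩
    have hεe₀ : ε * E e₀ = E e₀ := by
      rw [hε, Finset.sum_mul, Finset.sum_eq_single e₀]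
      · exact hEE e₀
      · intro b _ hb; exact hEorth b e₀ hb
      · intro h; exact absurd he₀O h
    rcases hirr (LinearMap.range ε) (fun h w hw => by
      obtain ⟨v, rfl⟩ := hw
      refine ⟨ρ h v, ?_⟩
      conv_lhs => rw [← hεh h]
      simp only [Module.End.mul_apply]
      rw [← Module.End.mul_apply (ρ h⁻¹), rho_inv_mul, Module.End.one_apply]) with h | h
    · exfalso
      rw [LinearMap.range_eq_bot] at h
      rw [h, zero_mul] at hεe₀
      exact hEne e₀ hεe₀.symm
    · by_contra he
      refine hEne e (LinearMap.ext fun v => ?_)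
      obtain ⟨u, rfl⟩ : v ∈ LinearMap.range ε := h ▸ Submodule.mem_top
      rw [← Module.End.mul_apply, hε, Finset.mul_sum, Finset.sum_eq_zero fun b hb => hEorth e b ?_]
      · rfl
      · intro hbe
        exact he (hbe ▸ (Finset.mem_filter.1 hb).2)
  right
  rw [not_nontrivial_iff_subsingleton] at hP
  haveI := hP
  have hone : (1 : R) ≠ 0 := fun h => by
    obtain ⟨v, hv⟩ := exists_ne (0 : V)
    exact hv (by simpa using LinearMap.congr_fun (congrArg Subtype.val h) v)
  obtain ⟨e₁⟩ : Nonempty P := by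
    by_contra h
    rw [not_nonempty_iff] at h
    have := sum_atoms (R := R)
    rw [Fintype.sum_empty] at this
    exact hone this.symm
  have he1 : (e₁ : R) = 1 := by
    have := sum_atoms (R := R)
    rwa [Fintype.sum_subsingleton _ e₁] at this
  have hat : IsAtomI (1 : R) := he1 ▸ e₁.2
  have hfield : IsField R := ⟨⟨1, 0, hone⟩, fun a b => mul_comm a b, fun {a} ha => by
    obtain ⟨s, hs⟩ := atom_unit hat hN hfixR (r := a) (by rwa [one_mul])
    exact ⟨s, by rwa [one_mul] at hs⟩⟩
  haveI : IsDomain R := hfield.isDomain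
  have hzdef : atomDeg p (1 : R) = Module.finrank (ZMod p) R := by
    apply Nat.pow_right_injective hp.out.two_le
    show p ^ atomDeg p (1 : R) = p ^ Module.finrank (ZMod p) R
    rw [← card_quot, ← card_atom_corner hat]
    refine (Nat.card_congr (Equiv.subtypeUnivEquiv fun r => one_mul r)).trans ?_
    rw [Module.natCard_eq_pow_finrank (K := ZMod p), Nat.card_zmod]
  set z := Module.finrank (ZMod p) R with hz
  have hRcard : Nat.card R = p ^ z := by rw [Module.natCard_eq_pow_finrank (K := ZMod p), Nat.card_zmod]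
  have hzpos : 1 ≤ z := by
    rw [← hzdef]; exact one_le_atomDeg hat
  have hAR : ∀ a ∈ A, ρ a ∈ R := fun a ha => Algebra.subset_adjoin ⟨a, ha, rfl⟩
  have hfixfree : ∀ a ∈ A, ∀ x : V, x ≠ 0 → ρ a x = x → a = 1 := by
    intro a ha x hx h
    by_contra hne
    set r : R := ⟨ρ a, hAR a ha⟩ - 1 with hr
    have hr0 : r ≠ 0 := fun h0 => hne (hinj (by
      rw [map_one]; exact congrArg Subtype.val (sub_eq_zero.1 h0)))
    obtain ⟨s, hs⟩ := hfield.mul_inv_cancel hr0
    rw [mul_comm] at hs
    have h1 := LinearMap.congr_fun (congrArg Subtype.val hs) x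
    have h2 : (r : Module.End (ZMod p) V) x = 0 := by
      show ρ a x - x = 0
      rw [h, sub_self]
    rw [MulMemClass.coe_mul, Module.End.mul_apply, h2, map_zero] at h1
    exact hx h1.symm
  have hcyc : IsCyclic A :=
    isCyclic_of_subgroup_isDomain
      ({ toFun := fun a => ⟨ρ a, hAR a a.2⟩
         map_one' := Subtype.ext (map_one ρ)
         map_mul' := fun a b => Subtype.ext (map_mul ρ _ _) } : A →* R)
      (fun a b h => Subtype.ext (hinj (congrArg Subtype.val h)))
  have hidx : (centralizer (A : Set G)).index ≤ z := by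
    rw [Subgroup.index_eq_card]
    let Φ : G → {φ : R →ₐ[ZMod p] R // φ 1 = 1} := fun g => ⟨conjR g, map_one _⟩
    have hΦ : ∀ g h : G, Φ g = Φ h → g⁻¹ * h ∈ centralizer (A : Set G) := by
      intro g h hgh
      rw [Subgroup.mem_centralizer_iff]
      intro a ha
      have h2 : ρ (g * a * g⁻¹) = ρ (h * a * h⁻¹) := by
        rw [rho_conj, rho_conj]
        exact congrArg (fun φ : {φ : R →ₐ[ZMod p] R // φ 1 = 1} => ((φ.1 ⟨ρ a, hAR a ha⟩ : R) : Module.End (ZMod p) V)) hgh
      have h3 := hinj h2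
      calc a * (g⁻¹ * h) = g⁻¹ * (g * a * g⁻¹) * h := by group
        _ = g⁻¹ * (h * a * h⁻¹) * h := by rw [h3]
        _ = g⁻¹ * h * a := by group
    refine (Nat.card_le_card_of_injective
      (fun x : G ⧸ centralizer (A : Set G) => Φ x.out) fun x y hxy => ?_).trans
      ((letI : Field R := hfield.toField; card_homs_atom_le hat hN hfixR R).trans_eq hzdef)
    rw [← QuotientGroup.out_eq' x, ← QuotientGroup.out_eq' y, QuotientGroup.eq]
    exact hΦ _ _ hxy
  obtain ⟨w, hw1, hVcard, hcount⟩ :=
    (letI : Field R := hfield.toField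
     card_le_of_multipliers.{u, v} (p := p) (V := V) R R.val.toRingHom hRcard)
  refine ⟨z, w, hVcard, hzpos, hw1, hcyc, hfixfree, hidx, ?_⟩
  intro M hMC hAM hcom hrad
  have hMR : ∀ x ∈ M, ∀ r ∈ R, ρ x * r = r * ρ x := by
    intro x hx r hr
    induction hr using Algebra.adjoin_induction with
    | mem y hy =>
      obtain ⟨a, ha, rfl⟩ := hy
      rw [← map_mul, ← map_mul, Subgroup.mem_centralizer_iff.1 (hMC hx) a ha]
    | algebraMap c => exact (Algebra.commutes c (ρ x)).symm
    | add a b _ _ ha hb => rw [mul_add, add_mul, ha, hb]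
    | mul a b _ _ ha hb => rw [← mul_assoc, ha, mul_assoc, hb, mul_assoc]
  let rep : M ⧸ A.subgroupOf M → M := fun u => u.out
  have hcA : ∀ a ∈ A, ∀ y ∈ M, a * y = y * a := fun a ha y hy => Subgroup.mem_centralizer_iff.1 (hMC hy) a ha
  let χ : M ⧸ A.subgroupOf M → (M →* R) := fun u =>
    { toFun := fun y => ⟨ρ ((y : G) * (rep u : G) * (y : G)⁻¹ * (rep u : G)⁻¹),
        hAR _ (hcom _ y.2 _ (rep u).2)⟩
      map_one' := Subtype.ext (by simp)
      map_mul' := fun y y' => Subtype.ext (by
        show ρ _ = ρ _ * ρ _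
        rw [← map_mul]
        congr 1
        set x := (rep u : G)
        have hc : ((y' : G) * x * (y' : G)⁻¹ * x⁻¹) * (y : G) = (y : G) * ((y' : G) * x * (y' : G)⁻¹ * x⁻¹) :=
          hcA _ (hcom _ y'.2 _ (rep u).2) _ y.2
        have hc2 : ((y' : G) * x * (y' : G)⁻¹ * x⁻¹) * ((y : G) * x * (y : G)⁻¹ * x⁻¹) =
            ((y : G) * x * (y : G)⁻¹ * x⁻¹) * ((y' : G) * x * (y' : G)⁻¹ * x⁻¹) :=
          hAc _ (hcom _ y'.2 _ (rep u).2) _ (hcom _ y.2 _ (rep u).2)
        rw [Subgroup.coe_mul, ← hc2]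
        calc (y : G) * y' * x * ((y : G) * y')⁻¹ * x⁻¹
            = (y : G) * ((y' : G) * x * (y' : G)⁻¹ * x⁻¹) * (x * (y : G)⁻¹ * x⁻¹) := by group
          _ = ((y' : G) * x * (y' : G)⁻¹ * x⁻¹) * (y : G) * (x * (y : G)⁻¹ * x⁻¹) := by rw [hc]
          _ = _ := by group) }
  have hχ : ∀ u (y : M), ρ (y : G) * ρ (rep u : G) = (χ u y : Module.End (ZMod p) V) * (ρ (rep u : G) * ρ (y : G)) := by
    intro u y
    show _ = ρ _ * _
    rw [← map_mul, ← map_mul, ← map_mul]
    congr 1
    group
  have hχinj : Function.Injective χ := by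
    intro u v huv
    rw [← QuotientGroup.out_eq' u, ← QuotientGroup.out_eq' v, QuotientGroup.eq, Subgroup.mem_subgroupOf]
    refine hrad _ ((rep u)⁻¹ * rep v).2 fun y hy => ?_
    have h := congrArg (fun φ : M →* R => (φ ⟨y, hy⟩ : Module.End (ZMod p) V)) huv
    have h' : y * (rep u : G) * y⁻¹ * (rep u : G)⁻¹ = y * (rep v : G) * y⁻¹ * (rep v : G)⁻¹ := hinj h
    show ((rep u : G)⁻¹ * (rep v : G)) * y = y * ((rep u : G)⁻¹ * (rep v : G))
    have h4 : (y * (rep v : G) * y⁻¹) = (y * (rep u : G) * y⁻¹ * (rep u : G)⁻¹) * (rep v : G) := by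
      rw [h']; group
    calc ((rep u : G)⁻¹ * (rep v : G)) * y
        = (y * (rep u : G) * y⁻¹)⁻¹ * ((y * (rep u : G) * y⁻¹ * (rep u : G)⁻¹) * (rep v : G)) * y := by group
      _ = (y * (rep u : G) * y⁻¹)⁻¹ * (y * (rep v : G) * y⁻¹) * y := by rw [← h4]
      _ = y * ((rep u : G)⁻¹ * (rep v : G)) := by group
  exact hcount (fun u => ρ (rep u : G)) (ρ.comp M.subtype) χ
    (fun u r => hMR _ (rep u).2 _ r.2) (fun y r => hMR _ y.2 _ r.2)
    (fun u x h => by rw [← rho_app_inv ρ (rep u : G)⁻¹ x, inv_inv, h, map_zero])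
    (fun y x => ⟨ρ (y : G)⁻¹ x, rho_app_inv ρ _ x⟩)
    hχ hχinj

end CfsgLib.SolvBlock
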