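import Cfsg.Agent.Lib.SolvBlock.Coprime
import Cfsg.Agent.Lib.Case.CharTwo
import Cfsg.Agent.Lib.PGroup.Basic

/-!
# `k(Y) ≤ 3 ^ (d - 1) * p ^ d` for solvable `Y` with trivial `p'`-core
-/

set_option autoImplicit false
set_option linter.style.haveILetI false
set_option maxHeartbeats 800000

namespace CfsgLib.SolvBlock

open Cfsg
open scoped Classical

universe u

theorem factorization_card_mul {G : Type*} [Group G] [Finite G] (N : Subgroup G) (p : ℕ) :
    (Nat.card G).factorization p = (Nat.card (G ⧸ N)).factorization p + (Nat.card N).factorization p := by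
  rw [Subgroup.card_eq_card_quotient_mul_card_subgroup N,
    Nat.factorization_mul Nat.card_pos.ne' Nat.card_pos.ne', Finsupp.add_apply]

theorem bd_step {n : ℕ} (hK : BdBelow.{u} n) : BdBelow.{u} (n + 1) := by
  intro Y _ _ hY hn p hp hO
  rcases Nat.lt_or_ge (Nat.card Y) (n + 1) with hlt | hge
  · exact hK Y hY (by omega) p hO
  haveI := hY
  set V₀ := pCore p Y with hV₀
  haveI hV₀n : V₀.Normal := CfsgLib.Solvable.pCore_normal p Y
  have hV₀p : IsPGroup p V₀ := CfsgLib.Solvable.pCore_isPGroup p Y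
  have hcent : Subgroup.centralizer (V₀ : Set Y) ≤ V₀ := CfsgLib.Case.centralizer_pCore_le_of_solvable hO
  rcases eq_or_ne V₀ ⊥ with hV₀1 | hV₀1
  · haveI : Subsingleton Y := ⟨fun a b => by
      have h1 : ∀ c : Y, c = 1 := fun c => Subgroup.mem_bot.1 (hV₀1 ▸ hcent (Subgroup.mem_centralizer_iff.2
        fun y hy => by
          rw [hV₀1] at hy
          rw [Subgroup.mem_bot.1 hy, one_mul, mul_one]))
      rw [h1 a, h1 b]⟩
    exact ((classNum_le_card Y).trans_eq (Nat.card_of_subsingleton 1)).trans (one_le_bd hp.out.one_le _)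
  obtain ⟨v, hv⟩ := IsPGroup.iff_card.1 hV₀p
  have hv0 : v ≠ 0 := fun h0 => hV₀1 (Subgroup.card_eq_one.1 (by rw [hv, h0, pow_zero]))
  set Φ := (frattini V₀).map V₀.subtype with hΦdef
  haveI : Φ.Normal := inferInstanceAs ((frattini V₀).map V₀.subtype).Normal
  rcases eq_or_ne Φ ⊥ with hΦ | hΦ
  swap
  · -- quotient by the Frattini subgroup
    set N := pPrimeCore p (Y ⧸ Φ) with hN
    have hNco : (Nat.card N).Coprime p := CfsgLib.Solvable.pPrimeCore_card_coprime p _
    have hsmall : ∀ x : Y, (x : Y ⧸ Φ) ∈ N → ∀ a : ℕ, x ^ p ^ a ∈ Φ → x ∈ Φ := by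
      intro x hx a ha
      rw [← QuotientGroup.eq_one_iff]
      have h1 : orderOf (x : Y ⧸ Φ) ∣ Nat.card N := N.orderOf_dvd_natCard hx
      have h2 : orderOf (x : Y ⧸ Φ) ∣ p ^ a := by
        rw [orderOf_dvd_iff_pow_eq_one, ← QuotientGroup.mk_pow, QuotientGroup.eq_one_iff]
        exact ha
      rw [← orderOf_eq_one_iff]
      exact Nat.eq_one_of_dvd_coprimes (hNco.pow_right a) h1 h2
    have hLV : ∀ x : Y, (x : Y ⧸ Φ) ∈ N → x ∈ V₀ → x ∈ Φ := by
      intro x hx hxV
      obtain ⟨a, ha⟩ := hV₀p ⟨x, hxV⟩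
      have ha' : x ^ p ^ a = 1 := congrArg Subtype.val ha
      exact hsmall x hx a (ha' ▸ Φ.one_mem)
    have hN1 : N = ⊥ := eq_bot_iff.2 fun z hz => by
      obtain ⟨x, rfl⟩ := QuotientGroup.mk_surjective z
      rw [Subgroup.mem_bot, QuotientGroup.eq_one_iff]
      set a := (orderOf x).factorization p with ha
      have hy : (Nat.card (Subgroup.zpowers (x ^ p ^ a))).Coprime p := by
        rw [Nat.card_zpowers, orderOf_pow_of_dvd (pow_ne_zero _ hp.out.ne_zero) (Nat.ordProj_dvd _ p)]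
        exact (Nat.coprime_ordCompl hp.out (orderOf_pos x).ne').symm
      obtain ⟨f, hf⟩ := IsPGroup.iff_card.1 (hV₀p.to_subgroup (frattini V₀))
      have hA : Subgroup.zpowers (x ^ p ^ a) ≤ Subgroup.centralizer (V₀ : Set Y) := by
        refine CfsgLib.Solvable.le_centralizer_of_trivial_on_frattini_quotient (hf ▸ hy.pow_right f) ?_
        intro b hb k hk
        refine hLV _ ?_ ?_
        · obtain ⟨i, rfl⟩ := Subgroup.mem_zpowers_iff.1 hb
          haveI : N.Normal := CfsgLib.Solvable.pPrimeCore_normal p _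
          rw [QuotientGroup.mk_mul, QuotientGroup.mk_mul, QuotientGroup.mk_mul, mul_assoc, mul_assoc,
            QuotientGroup.mk_zpow, QuotientGroup.mk_pow]
          have hb' : ((x : Y ⧸ Φ) ^ p ^ a) ^ i ∈ N := N.zpow_mem (N.pow_mem hz _) i
          refine N.mul_mem hb' ?_
          rw [QuotientGroup.mk_inv, QuotientGroup.mk_inv, QuotientGroup.mk_zpow, QuotientGroup.mk_pow, ← mul_assoc]
          exact (inferInstance : N.Normal).conj_mem _ (N.inv_mem hb') _
        · exact V₀.mul_mem (hV₀n.conj_mem k hk b) (V₀.inv_mem hk)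
      have hxV : x ^ p ^ a ∈ V₀ := hcent (hA (Subgroup.mem_zpowers _))
      obtain ⟨j, hj⟩ := IsPGroup.iff_card.1 hV₀p
      have h1 : orderOf (x ^ p ^ a) = 1 := Nat.eq_one_of_dvd_coprimes
        (show (p ^ j).Coprime (Nat.card (Subgroup.zpowers (x ^ p ^ a))) from (hy.pow_right j).symm)
        (hj ▸ V₀.orderOf_dvd_natCard hxV) (Nat.card_zpowers (x ^ p ^ a)).symm.dvd
      exact hsmall x hz a ((orderOf_eq_one_iff.1 h1).symm ▸ Φ.one_mem)
    haveI : Group.IsSolvable (Y ⧸ Φ) := Group.isSolvable_of_surjective (QuotientGroup.mk'_surjective Φ)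
    have hcard := Subgroup.card_eq_card_quotient_mul_card_subgroup Φ
    have hΦ2 : 1 < Nat.card Φ := Finite.one_lt_card_iff_nontrivial.2 ((Subgroup.nontrivial_iff_ne_bot Φ).2 hΦ)
    have hQ : Nat.card (Y ⧸ Φ) ≤ n := by
      have : 0 < Nat.card (Y ⧸ Φ) := Nat.card_pos
      nlinarith
    obtain ⟨f, hf⟩ := IsPGroup.iff_card.1 (hV₀p.to_le (Subgroup.map_subtype_le (frattini V₀)))
    have hfac : (Nat.card Φ).factorization p = f := by
      rw [hf, Nat.Prime.factorization_pow hp.out]; simp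
    rw [factorization_card_mul Φ p, hfac]
    refine (classNum_le_mul Φ).trans (le_trans ?_ (bd_mul_le _ _))
    rw [mul_comm]
    refine Nat.mul_le_mul (hK (Y ⧸ Φ) inferInstance hQ p hN1) ((classNum_le_card Φ).trans ?_)
    rw [hf]
    exact Nat.le_mul_of_pos_left _ (Nat.pow_pos (by norm_num))
  -- `V₀` is elementary abelian
  have hfr : frattini V₀ = ⊥ := (Subgroup.map_eq_bot_iff_of_injective _ V₀.subtype_injective).1 hΦ
  have hexp : ∀ x ∈ V₀, x ^ p = 1 := fun x hx => by
    have h1 := CfsgLib.PGroup.pow_mem_frattini hV₀p ⟨x, hx⟩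
    rw [hfr, Subgroup.mem_bot] at h1
    exact congrArg Subtype.val h1
  have hcomm : ∀ x ∈ V₀, ∀ y ∈ V₀, x * y = y * x := fun x hx y hy => by
    have h1 := CfsgLib.PGroup.commutator_le_frattini hV₀p
      (Subgroup.commutator_mem_commutator (Subgroup.mem_top (⟨x, hx⟩ : V₀)) (Subgroup.mem_top ⟨y, hy⟩))
    rw [hfr, Subgroup.mem_bot, commutatorElement_eq_one_iff_mul_comm] at h1
    exact congrArg Subtype.val h1
  have hself : Subgroup.centralizer (V₀ : Set Y) = V₀ := le_antisymm hcent fun x hx =>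
    Subgroup.mem_centralizer_iff.2 fun y hy => hcomm y hy x hx
  set N := pPrimeCore p (Y ⧸ V₀) with hN
  haveI : N.Normal := CfsgLib.Solvable.pPrimeCore_normal p _
  let F : Y →* (Y ⧸ V₀) ⧸ N := (QuotientGroup.mk' N).comp (QuotientGroup.mk' V₀)
  have hF : Function.Surjective F := (QuotientGroup.mk'_surjective N).comp (QuotientGroup.mk'_surjective V₀)
  by_cases htop : F.ker = ⊤
  · have hNtop : N = ⊤ := eq_top_iff.2 fun z _ => by
      obtain ⟨y, rfl⟩ := QuotientGroup.mk'_surjective V₀ z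
      exact (QuotientGroup.eq_one_iff _).1 (MonoidHom.mem_ker.1 (htop ▸ Subgroup.mem_top y : y ∈ F.ker))
    have hidx : ¬ p ∣ V₀.index := fun hd => by
      have h1 : (Nat.card N).Coprime p := CfsgLib.Solvable.pPrimeCore_card_coprime p _
      rw [hNtop, Subgroup.card_top, ← Subgroup.index_eq_card] at h1
      exact hp.out.coprime_iff_not_dvd.1 h1.symm hd
    have hmod : CoprimeModule p V₀ := ⟨hV₀n, hexp, hidx, hself⟩
    rw [hmod.factorization hv]
    exact coprime_step hK hn hmod hv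
  · set L := F.ker
    have hVL : V₀ ≤ L := fun x hx => by
      show QuotientGroup.mk' N (QuotientGroup.mk' V₀ x) = 1
      rw [QuotientGroup.mk'_apply V₀ x, (QuotientGroup.eq_one_iff x).2 hx, map_one]
    have hL1 : 1 < Nat.card L := Finite.one_lt_card_iff_nontrivial.2
      ((Subgroup.nontrivial_iff_ne_bot L).2 fun h0 => hV₀1 (eq_bot_iff.2 (h0 ▸ hVL)))
    have hLlt : Nat.card L < Nat.card Y :=
      lt_of_le_of_ne (Subgroup.card_le_card_group L) fun h0 => htop (Subgroup.eq_top_of_card_eq L h0)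
    have e : Y ⧸ L ≃* (Y ⧸ V₀) ⧸ N := QuotientGroup.quotientKerEquivOfSurjective F hF
    have hcard := Subgroup.card_eq_card_quotient_mul_card_subgroup L
    have hQ : Nat.card (Y ⧸ L) < Nat.card Y := by
      have : 0 < Nat.card (Y ⧸ L) := Nat.card_pos
      nlinarith
    have hLcore : pPrimeCore p L = ⊥ :=
      (Subgroup.map_eq_bot_iff_of_injective _ L.subtype_injective).1
        (eq_bot_iff.2 ((CfsgLib.Solvable.map_subtype_pPrimeCore_le L).trans hO.le))
    haveI : Group.IsSolvable (Y ⧸ V₀) := Group.isSolvable_of_surjective (QuotientGroup.mk'_surjective V₀)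
    haveI : Group.IsSolvable ((Y ⧸ V₀) ⧸ N) := Group.isSolvable_of_surjective (QuotientGroup.mk'_surjective N)
    rw [factorization_card_mul L p]
    refine (classNum_le_mul L).trans (le_trans ?_ (bd_mul_le _ _))
    rw [mul_comm]
    refine Nat.mul_le_mul ?_ (hK L inferInstance (by omega) p hLcore)
    rw [classNum_equiv e, Nat.card_congr e.toEquiv]
    exact hK _ inferInstance (by rw [← Nat.card_congr e.toEquiv]; omega) p
      (CfsgLib.Solvable.pPrimeCore_quotient_eq_bot N hN)

theorem bd_all : ∀ n, BdBelow.{u} n := by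
  intro n
  induction n with
  | zero => exact fun Y _ _ _ hle _ _ _ => absurd Nat.card_pos (not_lt.2 hle)
  | succ n ih => exact bd_step ih

/-- `k(Y) ≤ 3 ^ (d - 1) * p ^ d` when the `p'`-core of the solvable group `Y` is trivial. -/
theorem classNum_le_bd {Y : Type u} [Group Y] [Finite Y] [hY : Group.IsSolvable Y] {p : ℕ} [Fact p.Prime]
    (hO : pPrimeCore p Y = ⊥) :
    Nat.card (ConjClasses Y) ≤ bd p ((Nat.card Y).factorization p) :=
  bd_all (Nat.card Y) Y hY le_rfl p hO

end CfsgLib.SolvBlock
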