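import Cfsg.Agent.Lib.SolvBlock.SpLeaf
import Mathlib.GroupTheory.FiniteAbelian.Duality

/-!
# Solvable groups preserving a nondegenerate pairing on a semisimple module
-/

set_option autoImplicit false
set_option linter.style.haveILetI false
set_option maxHeartbeats 1000000

namespace CfsgLib.SolvBlock

open Matrix Cfsg

universe u

variable {U A : Type u} [CommGroup U] [CommGroup A]

theorem card_hom_cyclic_le (L : Type u) [CommGroup L] [Finite L] [Finite A] [IsCyclic A] :
    Finite (L →* A) ∧ Nat.card (L →* A) ≤ Nat.card L := by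
  have hA : Nat.card A ≠ 0 := Nat.card_pos.ne'
  haveI : NeZero (Nat.card A) := ⟨hA⟩
  haveI : Finite (rootsOfUnity (Nat.card A) ℂ) := inferInstance
  haveI : IsCyclic (rootsOfUnity (Nat.card A) ℂ) := rootsOfUnity.isCyclic ℂ _
  have hcard : Nat.card A = Nat.card (rootsOfUnity (Nat.card A) ℂ) :=
    (HasEnoughRootsOfUnity.natCard_rootsOfUnity ℂ (Nat.card A)).symm
  let e : A ≃* rootsOfUnity (Nat.card A) ℂ := mulEquivOfCyclicCardEq hcard
  let emb : A →* ℂˣ := (Subgroup.subtype _).comp e.toMonoidHom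
  have hinj : Function.Injective (fun φ : L →* A => emb.comp φ) := fun φ ψ h => MonoidHom.ext fun x =>
    e.injective (Subtype.ext (DFunLike.congr_fun h x))
  haveI : Finite (L →* ℂˣ) := Nat.finite_of_card_ne_zero (by
    rw [CommGroup.card_monoidHom_of_hasEnoughRootsOfUnity]; exact Nat.card_pos.ne')
  exact ⟨Finite.of_injective _ hinj,
    (Nat.card_le_card_of_injective _ hinj).trans_eq (CommGroup.card_monoidHom_of_hasEnoughRootsOfUnity L ℂ)⟩

/-- The orthogonal of a subgroup. -/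
def orth (c : U →* U →* A) (L : Subgroup U) : Subgroup U where
  carrier := {u | ∀ v ∈ L, c u v = 1}
  one_mem' v _ := by simp
  mul_mem' {x y} hx hy v hv := by simp [hx v hv, hy v hv]
  inv_mem' {x} hx v hv := by simp [hx v hv]

theorem mem_orth {c : U →* U →* A} {L : Subgroup U} {u : U} : u ∈ orth c L ↔ ∀ v ∈ L, c u v = 1 := Iff.rfl

/-- Restriction of invariant automorphisms. -/
def restrictAut (Γ : Subgroup (MulAut U)) (L : Subgroup U) (hL : ∀ γ ∈ Γ, ∀ u ∈ L, γ u ∈ L) :
    Γ →* MulAut L where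
  toFun γ :=
    { toFun := fun u => ⟨(γ : MulAut U) u, hL γ γ.2 u u.2⟩
      invFun := fun u => ⟨(γ : MulAut U)⁻¹ u, hL _ (Γ.inv_mem γ.2) u u.2⟩
      left_inv := fun u => Subtype.ext ((γ : MulAut U).symm_apply_apply (u : U))
      right_inv := fun u => Subtype.ext ((γ : MulAut U).apply_symm_apply (u : U))
      map_mul' := fun u v => Subtype.ext (map_mul (γ : MulAut U) (u : U) v) }
  map_one' := MulEquiv.ext fun _ => rfl
  map_mul' _ _ := MulEquiv.ext fun _ => rfl

theorem restrictAut_apply (Γ : Subgroup (MulAut U)) (L : Subgroup U) (hL : ∀ γ ∈ Γ, ∀ u ∈ L, γ u ∈ L)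
    (γ : Γ) (u : L) : ((restrictAut Γ L hL γ u : L) : U) = (γ : MulAut U) u := rfl

variable [Finite A] [IsCyclic A]

/-- Symplectic coordinates for an alternating pairing. -/
theorem exists_symp_coordinates {r : ℕ} [Fact r.Prime] {V : Type u} [AddCommGroup V] [Module (ZMod r) V]
    [Finite V] [Nontrivial V] (b : V → V → ZMod r) (hb1 : ∀ x y z, b (x + y) z = b x z + b y z)
    (hb2 : ∀ x y z, b x (y + z) = b x y + b x z) (halt : ∀ x, b x x = 0)
    (hnd : ∀ x, (∀ y, b x y = 0) → x = 0) :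
    ∃ (k : ℕ) (Φ : (Fin k ⊕ Fin k → ZMod r) ≃ₗ[ZMod r] V), 1 ≤ k ∧ Nat.card V = r ^ (2 * k) ∧
      ∀ v w, b (Φ v) (Φ w) = Cfsg.sympForm k (ZMod r) v w := by
  let B : LinearMap.BilinForm (ZMod r) V :=
    LinearMap.mk₂ (ZMod r) b hb1
      (fun t u v => LinearMap.map_smul
        (AddMonoidHom.toZModLinearMap r (AddMonoidHom.mk' (fun u => b u v) fun u u' => hb1 u u' v)) t u)
      hb2
      (fun t u v => LinearMap.map_smul
        (AddMonoidHom.toZModLinearMap r (AddMonoidHom.mk' (b u) (hb2 u))) t v)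
  have hBb : ∀ u v, B u v = b u v := fun _ _ => rfl
  have hBalt : B.IsAlt := fun u => halt u
  obtain ⟨k, e, f, hk, hef⟩ := CfsgLib.AutPSL.exists_symp_family _ B hBalt hnd rfl
  let φ : (Fin k ⊕ Fin k → ZMod r) →ₗ[ZMod r] V :=
    { toFun := fun w => ∑ i, (w (.inl i) • f i + w (.inr i) • e i)
      map_add' := fun v w => by simp [add_smul, Finset.sum_add_distrib]; abel
      map_smul' := fun t w => by simp [mul_smul, Finset.smul_sum, smul_add] }
  have hfe : ∀ i j, B (f i) (e j) = if i = j then -1 else 0 := fun i j => by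
    rw [← LinearMap.IsAlt.neg hBalt, (hef j i).2.2]
    split_ifs with h1 h2 h2 <;> simp_all
  have hφB : ∀ v w, B (φ v) (φ w) = Cfsg.sympForm k (ZMod r) v w := by
    intro v w
    show B (∑ i : Fin k, (v (.inl i) • f i + v (.inr i) • e i)) (∑ i : Fin k, (w (.inl i) • f i + w (.inr i) • e i)) = _
    simp only [map_sum, map_add, map_smul, LinearMap.sum_apply, LinearMap.add_apply, LinearMap.smul_apply,
      smul_eq_mul, (hef _ _).1, (hef _ _).2.1, (hef _ _).2.2, hfe, mul_zero, zero_add, add_zero, mul_ite,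
      Finset.sum_ite_eq, Finset.sum_ite_eq', Finset.mem_univ, if_true, mul_one, mul_neg, Finset.sum_add_distrib]
    simp only [Cfsg.sympForm, dotProduct, Matrix.mulVec, Matrix.J, Fintype.sum_sum_type,
      Matrix.fromBlocks_apply₁₁, Matrix.fromBlocks_apply₁₂, Matrix.fromBlocks_apply₂₁,
      Matrix.fromBlocks_apply₂₂, Matrix.zero_apply, Matrix.neg_apply, Matrix.one_apply, zero_mul,
      Finset.sum_const_zero, zero_add, add_zero, neg_mul, ite_mul, one_mul, Finset.sum_ite_eq,
      Finset.mem_univ, if_true, Finset.sum_neg_distrib, mul_neg, mul_comm]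
    abel
  have hφinj : Function.Injective φ := by
    rw [← LinearMap.ker_eq_bot, Submodule.eq_bot_iff]
    intro v hv
    exact CfsgLib.Linear.Symp.eq_zero_of_forall_form fun w => by
      rw [← hφB, LinearMap.mem_ker.1 hv, map_zero, LinearMap.zero_apply]
  have hrank : Module.finrank (ZMod r) (Fin k ⊕ Fin k → ZMod r) = Module.finrank (ZMod r) (V) := by
    rw [CfsgLib.SympGeom.finrank_space, hk]
  let Φ : (Fin k ⊕ Fin k → ZMod r) ≃ₗ[ZMod r] V := LinearEquiv.ofBijective φ
    ⟨hφinj, (LinearMap.injective_iff_surjective_of_finrank_eq_finrank hrank).1 hφinj⟩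
  have hcard : Nat.card V = r ^ (2 * k) := by
    rw [← Nat.card_congr Φ.toEquiv, Module.natCard_eq_pow_finrank (K := ZMod r), Nat.card_zmod,
      CfsgLib.SympGeom.finrank_space]
  refine ⟨k, Φ, ?_, hcard, fun v w => hφB v w⟩
  rcases Nat.eq_zero_or_pos k with rfl | h
  · exact absurd hcard (by simp [Finite.one_lt_card.ne'])
  · exact h

/-- The irreducible case. -/
theorem pairing_leaf {r : ℕ} [hr : Fact r.Prime] [Finite U] [Nontrivial U] (hU : ∀ u : U, u ^ r = 1)
    (c : U →* U →* A) (halt : ∀ u, c u u = 1) (hnd : ∀ u, (∀ v, c u v = 1) → u = 1)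
    (Γ : Subgroup (MulAut U)) (hirr : ∀ L : Subgroup U, (∀ γ ∈ Γ, ∀ u ∈ L, γ u ∈ L) → L = ⊥ ∨ L = ⊤)
    (H : Subgroup (MulAut U)) (hHn : ∀ γ ∈ Γ, ∀ h ∈ H, γ * h * γ⁻¹ ∈ H)
    (hHc : ∀ h ∈ H, ∀ u v, c (h u) (h v) = c u v) [Group.IsSolvable H]
    (hK : BdBelow.{u} (Nat.card H)) :
    ∃ e : ℕ, 0 < e ∧ Nat.card U = e * e ∧ Nat.card (ConjClasses H) ≤ 3 ^ (e - 1) := by
  classical
  set T : Subgroup A := (powMonoidHom r).ker with hT
  have hTmem : ∀ a, a ∈ T ↔ a ^ r = 1 := fun a => Iff.rfl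
  have hcT : ∀ u v, c u v ∈ T := fun u v => by
    rw [hTmem, ← map_pow, hU, map_one]
  obtain ⟨u₀, hu₀⟩ := exists_ne (1 : U)
  obtain ⟨v₀, hv₀⟩ : ∃ v, c u₀ v ≠ 1 := by
    by_contra! h; exact hu₀ (hnd _ h)
  have hTcard : Nat.card T = r := by
    refine le_antisymm ?_ ?_
    · cases nonempty_fintype A
      rw [Nat.card_eq_fintype_card]
      refine le_trans (le_of_eq ?_) (IsCyclic.card_pow_eq_one_le (α := A) hr.out.pos)
      rw [← Fintype.card_coe]
      exact Fintype.card_congr (Equiv.subtypeEquivRight fun a => by simp [hTmem])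
    · have h1 : orderOf (⟨c u₀ v₀, hcT _ _⟩ : T) = r := orderOf_eq_prime
        (Subtype.ext ((hTmem _).1 (hcT _ _))) (fun h => hv₀ (congrArg Subtype.val h))
      exact h1 ▸ orderOf_le_card
  haveI : IsCyclic T := Subgroup.isCyclic _
  let eT : T ≃* Multiplicative (ZMod r) := mulEquivOfCyclicCardEq (by simp [hTcard])
  haveI : Module (ZMod r) (Additive U) := AddCommGroup.zmodModule (n := r) (fun v => by
    show Additive.ofMul ((Additive.toMul v) ^ r) = 0
    rw [hU]; rfl)
  haveI : Finite (Additive U) := inferInstanceAs (Finite U)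
  let b : Additive U → Additive U → ZMod r := fun u v =>
    Multiplicative.toAdd (eT ⟨c (Additive.toMul u) (Additive.toMul v), hcT _ _⟩)
  have hb1 : ∀ u u' v, b (u + u') v = b u v + b u' v := fun u u' v => by
    simp only [b, ← toAdd_mul, ← map_mul]
    congr 2
    exact Subtype.ext (show c (Additive.toMul u * Additive.toMul u') (Additive.toMul v) = _ by
      rw [map_mul]; rfl)
  have hb2 : ∀ u v v', b u (v + v') = b u v + b u v' := fun u v v' => by
    simp only [b, ← toAdd_mul, ← map_mul]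
    congr 2
    exact Subtype.ext (show c (Additive.toMul u) (Additive.toMul v * Additive.toMul v') = _ by
      rw [map_mul]; rfl)
  have hb0 : ∀ u v : Additive U, b u v = 0 ↔ c (Additive.toMul u) (Additive.toMul v) = 1 := fun u v => by
    simp only [b, toAdd_eq_zero, EmbeddingLike.map_eq_one_iff]
    exact ⟨fun h => congrArg Subtype.val h, fun h => Subtype.ext h⟩
  haveI : Nontrivial (Additive U) := inferInstanceAs (Nontrivial U)
  obtain ⟨k, Φ, hk1, hcardV, hφB⟩ := exists_symp_coordinates b hb1 hb2 (fun u => (hb0 u u).2 (halt _))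
    fun u h => hnd _ fun v => (hb0 u (Additive.ofMul v)).1 (h _)
  have hcardU : Nat.card U = r ^ (2 * k) := by
    rw [← hcardV]; exact Nat.card_congr Additive.ofMul
  let lin : MulAut U → (Additive U →ₗ[ZMod r] Additive U) := fun h =>
    AddMonoidHom.toZModLinearMap r (MonoidHom.toAdditive h.toMonoidHom)
  have hlin : ∀ h u, lin h u = Additive.ofMul (h (Additive.toMul u)) := fun _ _ => rfl
  let g : H → ((Fin k ⊕ Fin k → ZMod r) ≃ₗ[ZMod r] (Fin k ⊕ Fin k → ZMod r)) := fun h =>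
    { ((Φ.symm.toLinearMap.comp ((lin h).comp Φ.toLinearMap))) with
      invFun := fun w => Φ.symm (lin (h : MulAut U)⁻¹ (Φ w))
      left_inv := fun w => by simp [hlin]
      right_inv := fun w => by simp [hlin] }
  have hg : ∀ h w, Φ (g h w) = lin h (Φ w) := fun h w => Φ.apply_symm_apply _
  have hgpres : ∀ h v w, Cfsg.sympForm k (ZMod r) (g h v) (g h w) = Cfsg.sympForm k (ZMod r) v w := by
    intro h v w
    rw [← hφB, ← hφB, hg, hg]
    show Multiplicative.toAdd (eT _) = Multiplicative.toAdd (eT _)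
    congr 2
    exact Subtype.ext (hHc h h.2 _ _)
  choose M hM using fun h => CfsgLib.SympGeom.exists_of_linearEquiv (g h) (hgpres h)
  have hΦM : ∀ h w, Φ ((M h).1 *ᵥ w) = lin h (Φ w) := fun h w => by rw [hM, hg]
  let F : H →* symplecticGroup (Fin k) (ZMod r) :=
    { toFun := M
      map_one' := Subtype.ext (Matrix.ext_of_mulVec_single fun i => Φ.injective (by
        rw [hΦM]; exact (congrArg Φ (Matrix.one_mulVec _)).symm))
      map_mul' := fun x y => Subtype.ext (Matrix.ext_of_mulVec_single fun i => Φ.injective (by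
        rw [hΦM]
        show _ = Φ (((M x).1 * (M y).1) *ᵥ _)
        rw [← Matrix.mulVec_mulVec, hΦM, hΦM]; rfl)) }
  have hF : ∀ h w, Φ ((F h).1 *ᵥ w) = lin h (Φ w) := hΦM
  have hFinj : Function.Injective F := by
    intro x y hxy
    refine Subtype.ext (MulEquiv.ext fun u => ?_)
    have h := hF x (Φ.symm (Additive.ofMul u))
    rw [hxy, hF, Φ.apply_symm_apply] at h
    exact (congrArg Additive.toMul h).symm
  have hfix : ∀ q, q.Prime → pCore q H ≠ ⊥ → ∀ v, (∀ h ∈ pCore q H, (F h).1 *ᵥ v = v) → v = 0 := by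
    intro q hq hne v hv
    let L : Subgroup U :=
      { carrier := {u | ∀ h ∈ pCore q H, (h : MulAut U) u = u}
        one_mem' := fun h _ => map_one _
        mul_mem' := fun {x y} hx hy h hh => by rw [map_mul, hx h hh, hy h hh]
        inv_mem' := fun {x} hx h hh => by rw [map_inv, hx h hh] }
    have hLinv : ∀ γ ∈ Γ, ∀ u ∈ L, γ u ∈ L := by
      intro γ hγ u hu h hh
      let σ : H ≃* H :=
        { toFun := fun x => ⟨γ⁻¹ * x * γ, by simpa using hHn _ (Γ.inv_mem hγ) x x.2⟩
          invFun := fun x => ⟨γ * x * γ⁻¹, hHn γ hγ x x.2⟩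
          left_inv := fun x => Subtype.ext (by group)
          right_inv := fun x => Subtype.ext (by group)
          map_mul' := fun x y => Subtype.ext (by
            show γ⁻¹ * ((x : MulAut U) * y) * γ = γ⁻¹ * x * γ * (γ⁻¹ * y * γ)
            group) }
      have h1 : σ h ∈ pCore q H := by
        rw [← CfsgLib.Solvable.map_pCore_mulEquiv σ]
        exact Subgroup.mem_map_of_mem _ hh
      have h2 := congrArg γ (hu _ h1)
      simpa [σ] using h2
    rcases hirr L hLinv with hL | hL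
    · have hmem : Additive.toMul (Φ v) ∈ L := fun h hh => by
        have := congrArg (fun w => Additive.toMul (Φ w)) (hv h hh)
        simpa [hF, hlin] using this
      rw [hL, Subgroup.mem_bot] at hmem
      exact Φ.injective (by rw [map_zero]; exact hmem)
    · refine absurd ((Subgroup.eq_bot_iff_forall _).2 fun h hh => ?_) hne
      exact Subtype.ext (MulEquiv.ext fun u => (show u ∈ L from hL ▸ Subgroup.mem_top u) h hh)
  exact ⟨r ^ k, Nat.pow_pos hr.out.pos, by rw [hcardU, two_mul, pow_add],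
    classNum_sp_le F hfix hk1 hK hFinj⟩

/-- The bound for a solvable group preserving a pairing. -/
theorem pairing_bound (n : ℕ) : ∀ {U : Type u} [CommGroup U] [Finite U], Nat.card U = n →
    ∀ (c : U →* U →* A), (∀ u, c u u = 1) →
    ∀ (Γ : Subgroup (MulAut U)), (∀ γ ∈ Γ, ∀ u v, c u v = 1 → c (γ u) (γ v) = 1) →
      (∀ L : Subgroup U, (∀ γ ∈ Γ, ∀ u ∈ L, γ u ∈ L) → ∀ u ∈ L, (∀ v ∈ L, c u v = 1) → u = 1) →
    ∀ (H : Subgroup (MulAut U)), H ≤ Γ → (∀ γ ∈ Γ, ∀ h ∈ H, γ * h * γ⁻¹ ∈ H) →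
      (∀ h ∈ H, ∀ u v, c (h u) (h v) = c u v) → Group.IsSolvable H → BdBelow.{u} (Nat.card H) →
    ∃ e : ℕ, 0 < e ∧ Nat.card U = e * e ∧ Nat.card (ConjClasses H) ≤ 3 ^ (e - 1) := by
  induction n using Nat.strong_induction_on with
  | _ n ih =>
  intro U _ _ hn c halt Γ hΓc hrad H hHΓ hHn hHc hHs hK
  classical
  rcases subsingleton_or_nontrivial U with hU | hU
  · haveI : Subsingleton (MulAut U) := ⟨fun _ _ => MulEquiv.ext fun _ => Subsingleton.elim _ _⟩
    exact ⟨1, one_pos, Nat.card_of_subsingleton 1, by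
      simpa using (classNum_le_card H).trans_eq (Nat.card_of_subsingleton 1)⟩
  by_cases hex : ∃ L : Subgroup U, (∀ γ ∈ Γ, ∀ u ∈ L, γ u ∈ L) ∧ L ≠ ⊥ ∧ L ≠ ⊤
  swap
  · push Not at hex
    obtain ⟨r, hr, hdvd⟩ := Nat.exists_prime_and_dvd (n := Nat.card U) (Finite.one_lt_card.ne')
    haveI := Fact.mk hr
    obtain ⟨x, hx⟩ := exists_prime_orderOf_dvd_card' r hdvd
    set L : Subgroup U := (powMonoidHom r).ker with hL
    have hLmem : ∀ u, u ∈ L ↔ u ^ r = 1 := fun u => Iff.rfl
    have hLinv : ∀ γ ∈ Γ, ∀ u ∈ L, γ u ∈ L := fun γ _ u hu => by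
      rw [hLmem, ← map_pow, (hLmem u).1 hu, map_one]
    have hLne : L ≠ ⊥ := fun h => by
      have : x ∈ L := (hLmem x).2 (hx ▸ pow_orderOf_eq_one x)
      rw [h, Subgroup.mem_bot] at this
      rw [this, orderOf_one] at hx
      exact hr.one_lt.ne hx
    have hLtop := hex L hLinv hLne
    exact pairing_leaf (fun u => (hLmem u).1 (hLtop ▸ Subgroup.mem_top u)) c halt
      (fun u hu => hrad ⊤ (fun _ _ _ _ => Subgroup.mem_top _) u (Subgroup.mem_top u) fun v _ => hu v)
      Γ (fun L' h' => or_iff_not_imp_left.2 (hex L' h')) H hHn hHc hK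
  obtain ⟨L, hLinv, hL1, hL2⟩ := hex
  set L' := orth c L with hL'
  have hL'inv : ∀ γ ∈ Γ, ∀ u ∈ L', γ u ∈ L' := by
    intro γ hγ u hu v hv
    have h := hΓc γ hγ u _ (hu _ (hLinv _ (Γ.inv_mem hγ) v hv))
    rwa [show γ (γ⁻¹ v) = v from γ.apply_symm_apply v] at h
  have hdis : L ⊓ L' = ⊥ := (Subgroup.eq_bot_iff_forall _).2 fun u hu =>
    hrad L hLinv u (Subgroup.mem_inf.1 hu).1 (Subgroup.mem_inf.1 hu).2
  have hcardge : Nat.card U ≤ Nat.card L * Nat.card L' := by
    let Φ : U →* (L →* A) :=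
      { toFun := fun u => (c u).comp L.subtype
        map_one' := MonoidHom.ext fun v => by simp
        map_mul' := fun u v => MonoidHom.ext fun w => by simp }
    have hker : Φ.ker = L' := by
      ext u
      exact ⟨fun h v hv => DFunLike.congr_fun h ⟨v, hv⟩, fun h => MonoidHom.ext fun v => h v v.2⟩
    obtain ⟨hfin, hle⟩ := card_hom_cyclic_le (A := A) L
    rw [← Subgroup.card_mul_index Φ.ker, Subgroup.index_ker, hker, mul_comm (Nat.card L)]
    exact Nat.mul_le_mul_left _ ((Subgroup.card_le_card_group _).trans hle)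
  let m : L × L' →* U := MonoidHom.coprod L.subtype L'.subtype
  have hminj : Function.Injective m := by
    rw [injective_iff_map_eq_one]
    rintro ⟨x, y⟩ hxy
    have hxy' : (x : U) * y = 1 := hxy
    have hx : (x : U) ∈ L ⊓ L' := Subgroup.mem_inf.2 ⟨x.2, by
      rw [eq_inv_of_mul_eq_one_left hxy']; exact L'.inv_mem y.2⟩
    rw [hdis, Subgroup.mem_bot] at hx
    rw [hx, one_mul] at hxy'
    exact Prod.ext (Subtype.ext hx) (Subtype.ext hxy')
  have hcard : Nat.card U = Nat.card L * Nat.card L' :=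
    le_antisymm hcardge (by rw [← Nat.card_prod]; exact Nat.card_le_card_of_injective m hminj)
  have hmsurj : Function.Surjective m := ((Nat.bijective_iff_injective_and_card m).2
    ⟨hminj, by rw [Nat.card_prod, hcard]⟩).2
  have hL'ne : L' ≠ ⊤ := fun h => hL1 (by rw [h, inf_top_eq] at hdis; exact hdis)
  -- the induction step on an invariant summand
  have sub : ∀ S S' : Subgroup U, S ≠ ⊤ → ∀ hS : (∀ γ ∈ Γ, ∀ u ∈ S, γ u ∈ S), (∀ γ ∈ Γ, ∀ u ∈ S', γ u ∈ S') →
      ∀ H₁ : Subgroup Γ, H₁.Normal → (∀ h ∈ H₁, (h : MulAut U) ∈ H) →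
      ∃ e : ℕ, 0 < e ∧ Nat.card S = e * e ∧
        Nat.card (ConjClasses (H₁.map (restrictAut Γ S hS))) ≤ 3 ^ (e - 1) := by
    intro S S' hStop hS _ H₁ hH₁n hH₁
    haveI := hH₁n
    let cS : S →* S →* A :=
      { toFun := fun u => (c u).comp S.subtype
        map_one' := MonoidHom.ext fun v => by simp
        map_mul' := fun u v => MonoidHom.ext fun w => by simp }
    set ρ := restrictAut Γ S hS
    have hlt : Nat.card S < n := by
      rw [← hn]
      exact lt_of_le_of_ne (Subgroup.card_le_card_group S) fun h => hStop (Subgroup.eq_top_of_card_eq S h)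
    haveI : Group.IsSolvable H₁ := by
      haveI := hHs
      exact Group.isSolvable_of_isSolvable_injective (f := ((Γ.subtype.comp H₁.subtype).codRestrict H fun x => hH₁ x x.2))
        fun x y h => Subtype.ext (Subtype.ext (congrArg Subtype.val h :))
    haveI : Finite (MulAut U) := Finite.of_injective (fun φ : MulAut U => (φ : U → U)) DFunLike.coe_injective
    refine ih _ hlt rfl cS (fun u => halt (u : U)) ρ.range ?_ ?_ (H₁.map ρ) ?_ ?_ ?_ ?_ ?_
    · rintro _ ⟨γ, rfl⟩ u v h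
      exact hΓc γ γ.2 _ _ h
    · intro M hM u hu hall
      have h := hrad (M.map S.subtype) (fun γ hγ x hx => by
        obtain ⟨y, hy, rfl⟩ := hx
        exact ⟨ρ ⟨γ, hγ⟩ y, hM _ ⟨_, rfl⟩ y hy, rfl⟩) u ⟨u, hu, rfl⟩ (by
        rintro _ ⟨y, hy, rfl⟩
        exact hall y hy)
      exact Subtype.ext h
    · exact Subgroup.map_le_range ρ H₁
    · rintro _ ⟨γ, rfl⟩ _ ⟨h, hh, rfl⟩
      exact ⟨γ * h * γ⁻¹, hH₁n.conj_mem h hh γ, by simp⟩
    · rintro _ ⟨h, hh, rfl⟩ u v
      exact hHc _ (hH₁ h hh) _ _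
    · exact Group.isSolvable_of_surjective (ρ.subgroupMap_surjective H₁)
    · intro Y _ _ hY hYc
      refine hK Y hY (hYc.trans ?_)
      refine (Nat.card_le_card_of_surjective _ (ρ.subgroupMap_surjective H₁)).trans ?_
      exact Nat.card_le_card_of_injective (fun x : H₁ => (⟨((x : Γ) : MulAut U), hH₁ x x.2⟩ : H))
        fun x y h => Subtype.ext (Subtype.ext (congrArg Subtype.val h :))
  let H₁ : Subgroup Γ := H.subgroupOf Γ
  have hH₁n : H₁.Normal := ⟨fun h hh γ => hHn γ γ.2 h hh⟩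
  set ρ := restrictAut Γ L hLinv
  let H₀ : Subgroup Γ := H₁ ⊓ ρ.ker
  haveI := hH₁n
  have hH₀n : H₀.Normal := inferInstance
  obtain ⟨a, ha0, hLa, hka⟩ := sub L L' hL2 hLinv hL'inv H₁ hH₁n fun h hh => hh
  obtain ⟨b, hb0, hLb, hkb⟩ := sub L' L hL'ne hL'inv hLinv H₀ hH₀n fun h hh => (Subgroup.mem_inf.1 hh).1
  haveI : Finite (MulAut U) := Finite.of_injective (fun φ : MulAut U => (φ : U → U)) DFunLike.coe_injective
  have hinj' : ∀ h ∈ H₀, restrictAut Γ L' hL'inv h = 1 → h = 1 := by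
    intro h hh h1
    refine Subtype.ext (MulEquiv.ext fun u => ?_)
    obtain ⟨⟨x, y⟩, rfl⟩ := hmsurj u
    have e1 : (h : MulAut U) (x : U) = x := congrArg (fun φ : MulAut L => ((φ x : L) : U))
      (MonoidHom.mem_ker.1 (Subgroup.mem_inf.1 hh).2)
    have e2 : (h : MulAut U) (y : U) = y := congrArg (fun φ : MulAut L' => ((φ y : L') : U)) h1
    show (h : MulAut U) ((x : U) * y) = (x : U) * y
    rw [map_mul, e1, e2]
  have e0 : Nat.card (ConjClasses H₀) = Nat.card (ConjClasses (H₀.map (restrictAut Γ L' hL'inv))) :=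
    classNum_equiv (MulEquiv.ofBijective ((restrictAut Γ L' hL'inv).subgroupMap H₀)
      ⟨(injective_iff_map_eq_one _).2 fun h h1 => Subtype.ext (hinj' h h.2 (congrArg Subtype.val h1)),
        (restrictAut Γ L' hL'inv).subgroupMap_surjective H₀⟩)
  have eH : Nat.card (ConjClasses H) = Nat.card (ConjClasses H₁) :=
    classNum_equiv (Subgroup.subgroupOfEquivOfLe hHΓ).symm
  set ρ₁ := ρ.subgroupMap H₁
  have hq : Nat.card (ConjClasses H₁) ≤
      Nat.card (ConjClasses H₀) * Nat.card (ConjClasses (H₁.map ρ)) := by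
    refine (classNum_le_mul ρ₁.ker).trans (Nat.mul_le_mul (le_of_eq ?_) (le_of_eq ?_))
    · refine classNum_equiv ?_
      refine MulEquiv.trans (MulEquiv.subgroupCongr (?_ : ρ₁.ker = H₀.subgroupOf H₁))
        (Subgroup.subgroupOfEquivOfLe inf_le_left)
      ext x
      rw [MonoidHom.mem_ker, Subgroup.mem_subgroupOf]
      exact ⟨fun h => Subgroup.mem_inf.2 ⟨x.2, congrArg Subtype.val h⟩,
        fun h => Subtype.ext (Subgroup.mem_inf.1 h).2⟩
    · exact classNum_equiv (QuotientGroup.quotientKerEquivOfSurjective ρ₁ (ρ.subgroupMap_surjective H₁))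
  refine ⟨a * b, Nat.mul_pos ha0 hb0, by rw [hcard, hLa, hLb]; ring, ?_⟩
  rw [eH]
  refine hq.trans ?_
  rw [e0]
  refine (Nat.mul_le_mul hkb hka).trans ?_
  rw [← pow_add]
  refine Nat.pow_le_pow_right (by norm_num) ?_
  obtain ⟨a, rfl⟩ : ∃ a', a = a' + 1 := ⟨a - 1, by omega⟩
  obtain ⟨b, rfl⟩ : ∃ b', b = b' + 1 := ⟨b - 1, by omega⟩
  simp only [Nat.add_sub_cancel]
  ring_nf
  omega

end CfsgLib.SolvBlock
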