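import Cfsg.Agent.Lib.SolvBlock.Pairing
import Cfsg.Agent.Lib.SolvBlock.Linear
import Cfsg.Agent.Lib.Solvable.Basic

/-!
# The layer above a maximal abelian normal subgroup
-/

set_option autoImplicit false
set_option linter.style.haveILetI false
set_option maxHeartbeats 1000000

namespace CfsgLib.SolvBlock

open Cfsg
open scoped Classical commutatorElement

universe u

/-- A maximal abelian normal subgroup `A` spanning a field gives a normal subgroup `M` with `M / A`
abelian and a small class number for the quotient by `M`. -/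
theorem exists_layer {p : ℕ} [Fact p.Prime] {V : Type u} [AddCommGroup V] [Module (ZMod p) V]
    [Finite V] [Nontrivial V] {G : Type u} [Group G] [Finite G] [Group.IsSolvable G]
    (ρ : G →* Module.End (ZMod p) V) (hK : BdBelow.{u} (Nat.card G)) (A : Subgroup G) [A.Normal]
    (hAc : ∀ a ∈ A, ∀ b ∈ A, a * b = b * a)
    (hAmax : ∀ B : Subgroup G, B.Normal → (∀ a ∈ B, ∀ b ∈ B, a * b = b * a) → A ≤ B → B = A)
    {z w : ℕ} (hF : FieldData ρ A z w) :
    ∃ (M : Subgroup G) (_ : M.Normal), A ≤ M ∧ (∀ a ∈ M, ∀ b ∈ M, a * b * a⁻¹ * b⁻¹ ∈ A) ∧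
      Nat.card (ConjClasses (G ⧸ M)) ≤ 3 ^ (z * w - 1) := by
  set C := Subgroup.centralizer (A : Set G) with hC
  haveI : C.Normal := inferInstance
  have hAC : A ≤ C := fun a ha => Subgroup.mem_centralizer_iff.2 fun b hb => hAc b hb a ha
  obtain ⟨M, hM⟩ := (Set.toFinite {K : Subgroup G | K.Normal ∧ A ≤ K ∧ K ≤ C ∧ ⁅K, K⁆ ≤ A}).exists_maximal
    ⟨A, inferInstance, le_rfl, hAC, Subgroup.commutator_le.2 fun x hx y hy => by
      rw [commutatorElement_def]
      exact A.mul_mem (A.mul_mem (A.mul_mem hx hy) (A.inv_mem hx)) (A.inv_mem hy)⟩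
  obtain ⟨⟨hMn, hAM, hMC, hMA⟩, hMmax⟩ := hM
  haveI := hMn
  have hcom : ∀ a ∈ M, ∀ b ∈ M, a * b * a⁻¹ * b⁻¹ ∈ A := fun a ha b hb => by
    rw [← commutatorElement_def]; exact hMA (Subgroup.commutator_mem_commutator ha hb)
  have hAcomm : ∀ a ∈ A, ∀ m ∈ C, a * m = m * a := fun a ha m hm => Subgroup.mem_centralizer_iff.1 hm a ha
  -- the centre of `M` is `A`
  have hrad : ∀ x ∈ M, (∀ y ∈ M, x * y = y * x) → x ∈ A := by
    intro x hx hxy
    have hB : M ⊓ Subgroup.centralizer (M : Set G) = A := by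
      refine hAmax _ inferInstance ?_ (le_inf hAM fun a ha => Subgroup.mem_centralizer_iff.2
        fun m hm => (hAcomm a ha m (hMC hm)).symm)
      intro a ha b hb
      exact (Subgroup.mem_centralizer_iff.1 (Subgroup.mem_inf.1 ha).2 b (Subgroup.mem_inf.1 hb).1).symm
    exact hB ▸ Subgroup.mem_inf.2 ⟨hx, Subgroup.mem_centralizer_iff.2 fun y hy => (hxy y hy).symm⟩
  set U := M.map (QuotientGroup.mk' A) with hUdef
  haveI : U.Normal := hMn.map _ (QuotientGroup.mk'_surjective A)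
  have hUab : ∀ u v : U, u * v = v * u := by
    rintro ⟨_, a, ha, rfl⟩ ⟨_, b, hb, rfl⟩
    refine Subtype.ext ?_
    show QuotientGroup.mk' A a * QuotientGroup.mk' A b = QuotientGroup.mk' A b * QuotientGroup.mk' A a
    rw [← map_mul, ← map_mul, QuotientGroup.mk'_apply, QuotientGroup.mk'_apply, QuotientGroup.eq]
    have := hcom b⁻¹ (M.inv_mem hb) a⁻¹ (M.inv_mem ha)
    simpa [mul_assoc] using this
  letI : CommGroup U := { (inferInstance : Group U) with mul_comm := hUab }
  letI : CommGroup A :=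
    { (inferInstance : Group A) with mul_comm := fun a b => Subtype.ext (hAc a a.2 b b.2) }
  haveI : IsCyclic A := hF.cyclic
  have hxex : ∀ u : U, ∃ x ∈ M, QuotientGroup.mk' A x = (u : G ⧸ A) := fun u => u.2
  choose xr hxrM hxr using hxex
  have hind : ∀ x ∈ M, ∀ y ∈ M, ∀ x' ∈ M, ∀ y' ∈ M, QuotientGroup.mk' A x = QuotientGroup.mk' A x' →
      QuotientGroup.mk' A y = QuotientGroup.mk' A y' → x * y * x⁻¹ * y⁻¹ = x' * y' * x'⁻¹ * y'⁻¹ := by
    intro x hx y hy x' hx' y' hy' e1 e2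
    rw [QuotientGroup.mk'_apply, QuotientGroup.mk'_apply, QuotientGroup.eq] at e1 e2
    obtain ⟨a, ha, rfl⟩ : ∃ a ∈ A, x' = x * a := ⟨_, e1, by group⟩
    obtain ⟨b, hb, rfl⟩ : ∃ b ∈ A, y' = y * b := ⟨_, e2, by group⟩
    have h1 : a * (y * b) = (y * b) * a := hAcomm a ha _ (C.mul_mem (hMC hy) (hAC hb))
    have h2 : b * x⁻¹ = x⁻¹ * b := hAcomm b hb _ (C.inv_mem (hMC hx))
    symm
    calc x * a * (y * b) * (x * a)⁻¹ * (y * b)⁻¹ = x * (a * (y * b)) * a⁻¹ * x⁻¹ * b⁻¹ * y⁻¹ := by group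
      _ = x * y * (b * x⁻¹) * b⁻¹ * y⁻¹ := by rw [h1]; group
      _ = x * y * x⁻¹ * y⁻¹ := by rw [h2]; group
  have hmul : ∀ u v : U, QuotientGroup.mk' A (xr (u * v)) = QuotientGroup.mk' A (xr u * xr v) := fun u v => by
    rw [hxr, map_mul, hxr, hxr]; rfl
  let cf : U → U → A := fun u v => ⟨xr u * xr v * (xr u)⁻¹ * (xr v)⁻¹, hcom _ (hxrM u) _ (hxrM v)⟩
  have hc1 : ∀ u u' v, cf (u * u') v = cf u v * cf u' v := fun u u' v => Subtype.ext (by
    show xr (u * u') * xr v * (xr (u * u'))⁻¹ * (xr v)⁻¹ = _ * _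
    rw [hind _ (hxrM _) _ (hxrM v) _ (M.mul_mem (hxrM u) (hxrM u')) _ (hxrM v) (hmul u u') rfl]
    set x := xr u; set x' := xr u'; set y := xr v
    have h1 : (x' * y * x'⁻¹ * y⁻¹) * x = x * (x' * y * x'⁻¹ * y⁻¹) :=
      hAcomm _ (hcom _ (hxrM u') _ (hxrM v)) x (hMC (hxrM u))
    have h2 : (x * y * x⁻¹ * y⁻¹) * (x' * y * x'⁻¹ * y⁻¹) = (x' * y * x'⁻¹ * y⁻¹) * (x * y * x⁻¹ * y⁻¹) :=
      hAc _ (hcom _ (hxrM u) _ (hxrM v)) _ (hcom _ (hxrM u') _ (hxrM v))
    show x * x' * y * (x * x')⁻¹ * y⁻¹ = (x * y * x⁻¹ * y⁻¹) * (x' * y * x'⁻¹ * y⁻¹)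
    rw [h2]
    calc x * x' * y * (x * x')⁻¹ * y⁻¹ = x * (x' * y * x'⁻¹ * y⁻¹) * (y * x⁻¹ * y⁻¹) := by group
      _ = (x' * y * x'⁻¹ * y⁻¹) * x * (y * x⁻¹ * y⁻¹) := by rw [h1]
      _ = _ := by group)
  have hswap : ∀ u v, cf v u = (cf u v)⁻¹ := fun u v => Subtype.ext (by
    show _ = (xr u * xr v * (xr u)⁻¹ * (xr v)⁻¹)⁻¹
    show xr v * xr u * (xr v)⁻¹ * (xr u)⁻¹ = _
    group)
  have hc2 : ∀ u v v', cf u (v * v') = cf u v * cf u v' := fun u v v' => by
    rw [hswap (v * v') u, hc1, mul_inv, ← hswap, ← hswap]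
  let c : U →* U →* A :=
    MonoidHom.mk' (fun u => MonoidHom.mk' (cf u) (hc2 u)) fun u u' => MonoidHom.ext (hc1 u u')
  have hcval : ∀ u v, ((c u v : A) : G) = xr u * xr v * (xr u)⁻¹ * (xr v)⁻¹ := fun _ _ => rfl
  have hcone : ∀ (u v : U) (x y : G), x ∈ M → y ∈ M → QuotientGroup.mk' A x = (u : G ⧸ A) →
      QuotientGroup.mk' A y = (v : G ⧸ A) → ((c u v : A) : G) = x * y * x⁻¹ * y⁻¹ := fun u v x y hx hy e1 e2 => by
    rw [hcval]
    exact hind _ (hxrM u) _ (hxrM v) _ hx _ hy (by rw [hxr, e1]) (by rw [hxr, e2])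
  let act : G →* MulAut U := (MulAut.conjNormal (H := U)).comp (QuotientGroup.mk' A)
  have hact : ∀ g (u : U), ((act g u : U) : G ⧸ A) = QuotientGroup.mk' A (g * xr u * g⁻¹) := fun g u => by
    rw [map_mul, map_mul, map_inv, hxr]
    exact MulAut.conjNormal_apply _ _
  have hactc : ∀ g u v, ((c (act g u) (act g v) : A) : G) = g * ((c u v : A) : G) * g⁻¹ := fun g u v => by
    rw [hcone _ _ (g * xr u * g⁻¹) (g * xr v * g⁻¹) (hMn.conj_mem _ (hxrM u) g) (hMn.conj_mem _ (hxrM v) g)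
      (hact g u).symm (hact g v).symm, hcval]
    group
  haveI : Finite (MulAut U) := Finite.of_injective (fun φ : MulAut U => (φ : U → U)) DFunLike.coe_injective
  haveI : Group.IsSolvable (C.map act) :=
    Group.isSolvable_of_surjective (act.subgroupMap_surjective C)
  have hKH : BdBelow.{u} (Nat.card (C.map act)) := fun Y _ _ hY hle =>
    hK Y hY (hle.trans ((Nat.card_le_card_of_surjective _ (act.subgroupMap_surjective C)).trans
      (Subgroup.card_le_card_group C)))
  obtain ⟨e, he0, hUe, hke⟩ := pairing_bound (Nat.card U) (U := U) rfl c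
    (fun u => Subtype.ext (by rw [hcval]; simp)) act.range
    (by
      rintro _ ⟨g, rfl⟩ u v h
      refine Subtype.ext ?_
      rw [hactc, h]
      simp)
    (by
      intro L hL u hu hall
      let R : Subgroup U := L ⊓ orth c L
      have hR : ∀ g, ∀ v ∈ R, act g v ∈ R := by
        intro g v hv
        refine Subgroup.mem_inf.2 ⟨hL _ ⟨g, rfl⟩ v (Subgroup.mem_inf.1 hv).1, fun y hy => ?_⟩
        have h1 := (Subgroup.mem_inf.1 hv).2 _ (hL _ ⟨g⁻¹, rfl⟩ y hy)
        refine Subtype.ext ?_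
        have h2 := hactc g v (act g⁻¹ y)
        rw [h1, show act g (act g⁻¹ y) = y from by rw [← MulAut.mul_apply, ← map_mul, mul_inv_cancel, map_one, MulAut.one_apply]] at h2
        rw [h2]
        simp
      set B := (R.map U.subtype).comap (QuotientGroup.mk' A) with hBdef
      have hBmem : ∀ b ∈ B, b ∈ M ∧ ∃ v ∈ R, QuotientGroup.mk' A b = (v : G ⧸ A) := by
        intro b hb
        obtain ⟨v, hv, hvb⟩ := Subgroup.mem_comap.1 hb
        refine ⟨?_, v, hv, hvb.symm⟩
        have h3 : QuotientGroup.mk' A (xr v) = QuotientGroup.mk' A b := (hxr v).trans hvb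
        rw [QuotientGroup.mk'_apply, QuotientGroup.mk'_apply, QuotientGroup.eq] at h3
        have := M.mul_mem (hxrM v) (hAM h3)
        rwa [mul_inv_cancel_left] at this
      have hBn : B.Normal := ⟨fun b hb g => by
        obtain ⟨hbM, v, hv, hvb⟩ := hBmem b hb
        refine Subgroup.mem_comap.2 ⟨act g v, hR g v hv, ?_⟩
        show ((act g v : U) : G ⧸ A) = _
        rw [hact, map_mul, map_mul, map_mul, map_mul, hxr, hvb]⟩
      have hBA : B = A := by
        refine hAmax B hBn ?_ (fun a ha => Subgroup.mem_comap.2 ⟨1, R.one_mem, by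
          show ((1 : U) : G ⧸ A) = _
          rw [QuotientGroup.mk'_apply, (QuotientGroup.eq_one_iff a).2 ha]; rfl⟩)
        intro a ha b hb
        obtain ⟨haM, v, hv, hva⟩ := hBmem a ha
        obtain ⟨hbM, v', hv', hvb⟩ := hBmem b hb
        have h1 := hcone v v' a b haM hbM hva hvb
        rw [(Subgroup.mem_inf.1 hv).2 v' (Subgroup.mem_inf.1 hv').1, OneMemClass.coe_one] at h1
        calc a * b = (a * b * a⁻¹ * b⁻¹) * (b * a) := by group
          _ = b * a := by rw [← h1, one_mul]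
      have hub : xr u ∈ B := Subgroup.mem_comap.2 ⟨u, Subgroup.mem_inf.2 ⟨hu, hall⟩, (hxr u).symm⟩
      rw [hBA] at hub
      refine Subtype.ext ?_
      rw [← hxr u, QuotientGroup.mk'_apply, (QuotientGroup.eq_one_iff _).2 hub]
      rfl)
    (C.map act) (Subgroup.map_le_range act C)
    (by
      rintro _ ⟨g, rfl⟩ _ ⟨x, hx, rfl⟩
      exact ⟨g * x * g⁻¹, (inferInstance : C.Normal).conj_mem x hx g, by simp⟩)
    (by
      rintro _ ⟨x, hx, rfl⟩ u v
      refine Subtype.ext ?_
      rw [hactc, ← hAcomm _ (c u v).2 x hx, mul_inv_cancel_right])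
    inferInstance hKH
  -- the kernel of the action in `C` is `M`
  have hker : ∀ x ∈ C, (act x = 1 ↔ x ∈ M) := by
    intro x hx
    constructor
    · intro hx1
      have hfA : ∀ u : U, x * xr u * x⁻¹ * (xr u)⁻¹ ∈ A := fun u => by
        have h1 : ((act x u : U) : G ⧸ A) = (u : G ⧸ A) := by rw [hx1]; rfl
        rw [hact] at h1
        rw [← QuotientGroup.eq_one_iff, QuotientGroup.mk_mul, QuotientGroup.mk_inv, mul_inv_eq_one]
        exact h1.trans (hxr u).symm
      have hfind : ∀ y ∈ M, ∀ u : U, QuotientGroup.mk' A y = (u : G ⧸ A) →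
          x * y * x⁻¹ * y⁻¹ = x * xr u * x⁻¹ * (xr u)⁻¹ := by
        intro y _ u hyu
        rw [← hxr u, QuotientGroup.mk'_apply, QuotientGroup.mk'_apply, eq_comm, QuotientGroup.eq] at hyu
        obtain ⟨a, ha, rfl⟩ : ∃ a ∈ A, y = xr u * a := ⟨_, hyu, by group⟩
        have h1 : a * x⁻¹ = x⁻¹ * a := hAcomm a ha _ (C.inv_mem hx)
        calc x * (xr u * a) * x⁻¹ * (xr u * a)⁻¹ = x * xr u * (a * x⁻¹) * a⁻¹ * (xr u)⁻¹ := by group
          _ = _ := by rw [h1]; group
      let f : U →* A := MonoidHom.mk' (fun u => ⟨_, hfA u⟩) fun u v => Subtype.ext (by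
        show x * xr (u * v) * x⁻¹ * (xr (u * v))⁻¹ =
          (x * xr u * x⁻¹ * (xr u)⁻¹) * (x * xr v * x⁻¹ * (xr v)⁻¹)
        rw [← hfind (xr u * xr v) (M.mul_mem (hxrM u) (hxrM v)) (u * v) (by rw [← hxr (u * v), hmul])]
        have h1 : (x * xr v * x⁻¹ * (xr v)⁻¹) * (xr u)⁻¹ = (xr u)⁻¹ * (x * xr v * x⁻¹ * (xr v)⁻¹) :=
          hAcomm _ (hfA v) _ (C.inv_mem (hMC (hxrM u)))
        calc x * (xr u * xr v) * x⁻¹ * (xr u * xr v)⁻¹
            = x * xr u * x⁻¹ * ((x * xr v * x⁻¹ * (xr v)⁻¹) * (xr u)⁻¹) := by group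
          _ = _ := by rw [h1]; group)
      have hinj : Function.Injective c := by
        rw [injective_iff_map_eq_one]
        intro u hu
        have hA' : xr u ∈ A := hrad _ (hxrM u) fun y hy => by
          have h1 := hcone u ⟨QuotientGroup.mk' A y, y, hy, rfl⟩ (xr u) y (hxrM u) hy (hxr u) rfl
          rw [hu, MonoidHom.one_apply, OneMemClass.coe_one] at h1
          calc xr u * y = (xr u * y * (xr u)⁻¹ * y⁻¹) * (y * xr u) := by group
            _ = y * xr u := by rw [← h1, one_mul]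
        refine Subtype.ext ?_
        rw [← hxr u, QuotientGroup.mk'_apply, (QuotientGroup.eq_one_iff _).2 hA']
        rfl
      obtain ⟨hfin, hle⟩ := card_hom_cyclic_le (A := A) U
      haveI := hfin
      have hsurj : Function.Surjective c := ((Nat.bijective_iff_injective_and_card c).2
        ⟨hinj, le_antisymm (Nat.card_le_card_of_injective c hinj) hle⟩).2
      obtain ⟨u₀, hu₀⟩ := hsurj f
      have hcen : ∀ y ∈ M, (xr u₀)⁻¹ * x * y = y * ((xr u₀)⁻¹ * x) := by
        intro y hy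
        set v : U := ⟨QuotientGroup.mk' A y, y, hy, rfl⟩
        have h1 := hcone u₀ v (xr u₀) y (hxrM u₀) hy (hxr u₀) rfl
        rw [hu₀] at h1
        have h2 : x * y * x⁻¹ * y⁻¹ = xr u₀ * y * (xr u₀)⁻¹ * y⁻¹ := (hfind y hy v rfl).trans h1
        calc (xr u₀)⁻¹ * x * y = (xr u₀)⁻¹ * (x * y * x⁻¹ * y⁻¹) * (y * x) := by group
          _ = y * ((xr u₀)⁻¹ * x) := by rw [h2]; group
      set D := C ⊓ Subgroup.centralizer (M : Set G) with hD
      have hDA : D ≤ A := by
        intro y hy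
        by_contra hyA
        have hne : D.map (QuotientGroup.mk' A) ≠ ⊥ := fun h0 => hyA ((QuotientGroup.eq_one_iff y).1
          (Subgroup.mem_bot.1 (h0 ▸ Subgroup.mem_map_of_mem (QuotientGroup.mk' A) hy)))
        haveI : (D.map (QuotientGroup.mk' A)).Normal :=
          (inferInstance : D.Normal).map _ (QuotientGroup.mk'_surjective A)
        haveI : Group.IsSolvable (G ⧸ A) := Group.isSolvable_of_surjective (QuotientGroup.mk'_surjective A)
        obtain ⟨B0, hB0n, hB01, hB0D, hB0min⟩ :=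
          CfsgLib.Solvable.exists_minimal_normal_le (D.map (QuotientGroup.mk' A)) hne
        haveI := hB0n
        obtain ⟨hB0c, -⟩ := CfsgLib.Solvable.minimal_normal_elementary_abelian B0 hB01 hB0min
        haveI := hB0c
        set B := B0.comap (QuotientGroup.mk' A)
        have hBD : ∀ b ∈ B, b ∈ D := fun b hb => by
          obtain ⟨d, hd, hdb⟩ := hB0D hb
          rw [QuotientGroup.mk'_apply, QuotientGroup.mk'_apply, QuotientGroup.eq] at hdb
          have hAD : A ≤ D := le_inf hAC fun a ha => Subgroup.mem_centralizer_iff.2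
            fun m hm => (hAcomm a ha m (hMC hm)).symm
          have := D.mul_mem hd (hAD hdb)
          rwa [mul_inv_cancel_left] at this
        have hMB : M ⊔ B ∈ {K : Subgroup G | K.Normal ∧ A ≤ K ∧ K ≤ C ∧ ⁅K, K⁆ ≤ A} := by
          refine ⟨inferInstance, hAM.trans le_sup_left, sup_le hMC fun b hb => (Subgroup.mem_inf.1 (hBD b hb)).1,
            Subgroup.commutator_le.2 fun a ha b hb => ?_⟩
          obtain ⟨m, hm, k, hk, rfl⟩ := Subgroup.mem_sup_of_normal_left.1 ha
          obtain ⟨m', hm', k', hk', rfl⟩ := Subgroup.mem_sup_of_normal_left.1 hb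
          rw [← QuotientGroup.eq_one_iff, ← QuotientGroup.mk'_apply, map_commutatorElement, map_mul, map_mul,
            commutatorElement_eq_one_iff_mul_comm]
          have e1 : Commute (QuotientGroup.mk' A m) (QuotientGroup.mk' A m') :=
            congrArg Subtype.val (hUab ⟨_, m, hm, rfl⟩ ⟨_, m', hm', rfl⟩)
          have e2 : ∀ n ∈ M, ∀ j ∈ B, Commute (QuotientGroup.mk' A n) (QuotientGroup.mk' A j) := fun n hn j hj => by
            rw [Commute, SemiconjBy, ← map_mul, ← map_mul,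
              Subgroup.mem_centralizer_iff.1 (Subgroup.mem_inf.1 (hBD j hj)).2 n hn]
          have e3 : Commute (QuotientGroup.mk' A k) (QuotientGroup.mk' A k') :=
            setLike_mul_comm (Subgroup.mem_comap.1 hk) (Subgroup.mem_comap.1 hk')
          exact ((e1.mul_right (e2 m hm k' hk')).mul_left (((e2 m' hm' k hk).symm).mul_right e3)).eq
        have hBM : B ≤ M := le_trans le_sup_right (hMmax hMB le_sup_left)
        refine hB01 (eq_bot_iff.2 fun b hb => ?_)
        obtain ⟨b, rfl⟩ := QuotientGroup.mk'_surjective A b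
        have hbA : b ∈ A := hrad b (hBM hb) fun m hm =>
          (Subgroup.mem_centralizer_iff.1 (Subgroup.mem_inf.1 (hBD b hb)).2 m hm).symm
        rw [Subgroup.mem_bot, QuotientGroup.mk'_apply, (QuotientGroup.eq_one_iff b).2 hbA]
      have hd : (xr u₀)⁻¹ * x ∈ A := hDA (Subgroup.mem_inf.2 ⟨C.mul_mem (C.inv_mem (hMC (hxrM u₀))) hx,
        Subgroup.mem_centralizer_iff.2 fun y hy => (hcen y hy).symm⟩)
      have := M.mul_mem (hxrM u₀) (hAM hd)
      rwa [mul_inv_cancel_left] at this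
    · intro hxM
      refine MulEquiv.ext fun u => Subtype.ext ?_
      rw [hact, MulAut.one_apply, ← hxr u, map_mul, map_mul, map_inv]
      have h1 := hUab ⟨_, x, hxM, rfl⟩ ⟨_, xr u, hxrM u, rfl⟩
      have h2 : QuotientGroup.mk' A x * QuotientGroup.mk' A (xr u) =
        QuotientGroup.mk' A (xr u) * QuotientGroup.mk' A x := congrArg Subtype.val h1
      rw [h2, mul_inv_cancel_right]
  have hidx : (C.map (QuotientGroup.mk' M)).index = C.index :=
    Subgroup.index_map_eq _ (QuotientGroup.mk'_surjective M) (by rw [QuotientGroup.ker_mk']; exact hMC)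
  haveI : (C.map (QuotientGroup.mk' M)).Normal :=
    (inferInstance : C.Normal).map _ (QuotientGroup.mk'_surjective M)
  have hkC : Nat.card (ConjClasses (C.map (QuotientGroup.mk' M))) = Nat.card (ConjClasses (C.map act)) := by
    have e1 := QuotientGroup.quotientKerEquivOfSurjective ((QuotientGroup.mk' M).subgroupMap C)
      ((QuotientGroup.mk' M).subgroupMap_surjective C)
    have e2 := QuotientGroup.quotientKerEquivOfSurjective (act.subgroupMap C) (act.subgroupMap_surjective C)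
    refine (classNum_equiv e1).symm.trans ((classNum_equiv (QuotientGroup.quotientMulEquivOfEq ?_)).trans
      (classNum_equiv e2))
    ext x
    rw [MonoidHom.mem_ker, MonoidHom.mem_ker]
    constructor
    · intro h
      exact Subtype.ext ((hker x x.2).2 ((QuotientGroup.eq_one_iff (x : G)).1 (congrArg Subtype.val h)))
    · intro h
      exact Subtype.ext ((QuotientGroup.eq_one_iff (x : G)).2 ((hker x x.2).1 (congrArg Subtype.val h)))
  refine ⟨M, hMn, hAM, hcom, ?_⟩
  refine (classNum_le_mul_index (C.map (QuotientGroup.mk' M))).trans ?_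
  rw [hidx, hkC]
  refine (Nat.mul_le_mul hke hF.index_le).trans ?_
  have hUw : Nat.card U ≤ w * w := by
    refine le_trans (le_of_eq ?_) (hF.card_le M hMC hAM hcom hrad)
    have e1 := QuotientGroup.quotientKerEquivOfSurjective ((QuotientGroup.mk' A).subgroupMap M)
      ((QuotientGroup.mk' A).subgroupMap_surjective M)
    rw [hUdef, ← Nat.card_congr e1.toEquiv]
    refine Nat.card_congr (QuotientGroup.quotientMulEquivOfEq ?_).toEquiv
    ext x
    rw [MonoidHom.mem_ker, Subgroup.mem_subgroupOf]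
    exact ⟨fun h => (QuotientGroup.eq_one_iff (x : G)).1 (congrArg Subtype.val h),
      fun h => Subtype.ext ((QuotientGroup.eq_one_iff (x : G)).2 h)⟩
  have hew : e ≤ w := Nat.mul_self_le_mul_self_iff.1 (hUe ▸ hUw)
  refine (Nat.mul_le_mul_left _ (le_three_pow z hF.z_pos)).trans ?_
  rw [← pow_add]
  refine Nat.pow_le_pow_right (by norm_num) ?_
  obtain ⟨z', hz'⟩ : ∃ z', z = z' + 1 := ⟨z - 1, by have := hF.z_pos; omega⟩
  obtain ⟨w', hw'⟩ : ∃ w', w = w' + 1 := ⟨w - 1, by have := hF.w_pos; omega⟩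
  subst hz' hw'
  rw [show (z' + 1) * (w' + 1) = z' * w' + z' + w' + 1 by ring]
  omega

end CfsgLib.SolvBlock
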