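import Cfsg.Agent.Lib.SympGeom.Basic
import Cfsg.Agent.Lib.AutPSL.Congr

/-!
# Cyclic vectors of symplectic elements and their centralizers
-/

set_option autoImplicit false
set_option linter.style.haveILetI false

namespace CfsgLib.SolvBlock

open Matrix Polynomial Cfsg

variable {m : ℕ} {F : Type*} [Field F]

/-- The vectors reached from `u` by polynomials in `A`. -/
noncomputable def orbitMap (A : Matrix (Fin m ⊕ Fin m) (Fin m ⊕ Fin m) F) (u : Fin m ⊕ Fin m → F) :
    F[X] →ₗ[F] (Fin m ⊕ Fin m → F) where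
  toFun p := (aeval A p) *ᵥ u
  map_add' p q := by rw [map_add, Matrix.add_mulVec]
  map_smul' c p := by rw [map_smul, Matrix.smul_mulVec, RingHom.id_apply]

theorem orbitMap_apply (A : Matrix (Fin m ⊕ Fin m) (Fin m ⊕ Fin m) F) (u : Fin m ⊕ Fin m → F) (p : F[X]) :
    orbitMap A u p = (aeval A p) *ᵥ u := rfl

theorem mem_range_self (A : Matrix (Fin m ⊕ Fin m) (Fin m ⊕ Fin m) F) (u : Fin m ⊕ Fin m → F) :
    u ∈ LinearMap.range (orbitMap A u) := ⟨1, by rw [orbitMap_apply, map_one, Matrix.one_mulVec]⟩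

theorem range_invariant (A : Matrix (Fin m ⊕ Fin m) (Fin m ⊕ Fin m) F) (u : Fin m ⊕ Fin m → F) :
    ∀ w ∈ LinearMap.range (orbitMap A u), A *ᵥ w ∈ LinearMap.range (orbitMap A u) := by
  rintro w ⟨p, rfl⟩
  exact ⟨X * p, by rw [orbitMap_apply, map_mul, aeval_X, ← Matrix.mulVec_mulVec, orbitMap_apply]⟩

/-- A symplectic element of order above two with few invariant subspaces has a cyclic vector. -/
theorem exists_cyclic_vector [Finite F] (hm : 1 ≤ m) (x : symplecticGroup (Fin m) F)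
    (hW : ∀ W : Submodule F (Fin m ⊕ Fin m → F), (∀ w ∈ W, x.1 *ᵥ w ∈ W) →
      W = ⊥ ∨ W = ⊤ ∨ (Odd m ∧ Module.finrank F W = m)) (hx2 : x * x ≠ 1) :
    ∃ u : Fin m ⊕ Fin m → F, LinearMap.range (orbitMap x.1 u) = ⊤ := by
  classical
  by_contra hno
  push Not at hno
  set B := CfsgLib.SympGeom.sympBilin m F with hB
  have halt : B.IsAlt := CfsgLib.SympGeom.sympBilin_alt
  have hpres : ∀ u v, B (x.1 *ᵥ u) (x.1 *ᵥ v) = B u v := fun u v => Linear.Symp.form_mulVec x.2 u v
  have hiso : ∀ u, B u (x.1 *ᵥ u) = 0 := by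
    intro u
    by_cases hu : u = 0
    · simp [hu]
    set W := LinearMap.range (orbitMap x.1 u) with hWdef
    have hu' : u ∈ W := mem_range_self _ _
    have hinvW := range_invariant x.1 u
    rcases hW W hinvW with h | h | ⟨hodd, hdim⟩
    · rw [h, Submodule.mem_bot] at hu'; exact absurd hu' hu
    · exact absurd h (hno u)
    let R : Submodule F (Fin m ⊕ Fin m → F) :=
      { carrier := {w | w ∈ W ∧ ∀ y ∈ W, B w y = 0}
        add_mem' := fun {a b} ha hb => ⟨W.add_mem ha.1 hb.1, fun y hy => by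
          rw [map_add, LinearMap.add_apply, ha.2 y hy, hb.2 y hy, add_zero]⟩
        zero_mem' := ⟨W.zero_mem, fun y _ => by simp⟩
        smul_mem' := fun c w hw => ⟨W.smul_mem c hw.1, fun y hy => by
          rw [map_smul, LinearMap.smul_apply, hw.2 y hy, smul_zero]⟩ }
    have hRW : R ≤ W := fun w hw => hw.1
    have hRinv : ∀ w ∈ R, x.1 *ᵥ w ∈ R := by
      intro w hw
      refine ⟨hinvW w hw.1, fun y hy => ?_⟩
      -- `x` permutes `W`
      let σ : W → W := fun z => ⟨x.1 *ᵥ z, hinvW z z.2⟩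
      have hσ : Function.Injective σ := fun z z' h => by
        refine Subtype.ext ?_
        have := congrArg (fun t : W => (x⁻¹).1 *ᵥ (t : Fin m ⊕ Fin m → F)) h
        simpa [σ, Matrix.mulVec_mulVec, show (x⁻¹).1 * x.1 = 1 from congrArg Subtype.val (inv_mul_cancel x)] using this
      obtain ⟨z, hz⟩ := (Finite.injective_iff_surjective.1 hσ) ⟨y, hy⟩
      have hz' : x.1 *ᵥ (z : Fin m ⊕ Fin m → F) = y := congrArg Subtype.val hz
      rw [← hz', hpres]
      exact hw.2 z z.2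
    rcases hW R hRinv with h | h | ⟨-, hdimR⟩
    · exfalso
      have hnd : ∀ z : W, (∀ y : W, B.restrict W z y = 0) → z = 0 := by
        intro z hz
        have : (z : Fin m ⊕ Fin m → F) ∈ R := ⟨z.2, fun y hy => hz ⟨y, hy⟩⟩
        rw [h, Submodule.mem_bot] at this
        exact Subtype.ext this
      obtain ⟨k, -, -, hk, -⟩ := CfsgLib.AutPSL.exists_symp_family _ (B.restrict W)
        (fun z => halt z) hnd rfl
      rw [hdim] at hk
      exact (Nat.not_even_iff_odd.2 hodd) ⟨k, by omega⟩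
    · exact absurd (eq_top_iff.2 (h ▸ hRW)) (hno u)
    have hRe : R = W := Submodule.eq_of_le_of_finrank_eq hRW (by rw [hdimR, hdim])
    exact ((hRe.symm ▸ hu' : u ∈ R)).2 _ (hinvW u hu')
  -- polarisation
  refine hx2 ?_
  have key : ∀ u v, B u (x.1 *ᵥ v) = B (x.1 *ᵥ u) v := by
    intro u v
    have h := hiso (u + v)
    rw [Matrix.mulVec_add, map_add, map_add, LinearMap.add_apply, LinearMap.add_apply, hiso, hiso] at h
    have h2 := LinearMap.IsAlt.neg halt (x.1 *ᵥ u) v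
    linear_combination h + h2
  refine Subtype.ext (Matrix.ext_of_mulVec_single fun i => ?_)
  set v : Fin m ⊕ Fin m → F := Pi.single i 1
  show (x.1 * x.1) *ᵥ v = (1 : Matrix (Fin m ⊕ Fin m) (Fin m ⊕ Fin m) F) *ᵥ v
  rw [Matrix.one_mulVec, ← Matrix.mulVec_mulVec]
  have h : ∀ u, B ((x.1 *ᵥ (x.1 *ᵥ v)) - v) u = 0 := by
    intro u
    have h1 : B u (x.1 *ᵥ (x.1 *ᵥ v)) = B u v := by rw [key, hpres]
    rw [map_sub, LinearMap.sub_apply, ← LinearMap.IsAlt.neg halt, h1, LinearMap.IsAlt.neg halt, sub_self]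
  exact sub_eq_zero.1 (CfsgLib.SympGeom.sympBilin_nondeg.1 _ h)

/-- Elements centralizing a matrix with a cyclic vector are polynomials in it. -/
theorem exists_eq_aeval (A C : Matrix (Fin m ⊕ Fin m) (Fin m ⊕ Fin m) F) (hC : C * A = A * C)
    (u : Fin m ⊕ Fin m → F) (hu : LinearMap.range (orbitMap A u) = ⊤) :
    ∃ p : F[X], C = aeval A p := by
  obtain ⟨p, hp⟩ : C *ᵥ u ∈ LinearMap.range (orbitMap A u) := hu ▸ Submodule.mem_top
  refine ⟨p, Matrix.ext_of_mulVec_single fun i => ?_⟩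
  obtain ⟨q, hq⟩ : (Pi.single i (1 : F) : Fin m ⊕ Fin m → F) ∈ LinearMap.range (orbitMap A u) :=
    hu ▸ Submodule.mem_top
  rw [← hq, orbitMap_apply, Matrix.mulVec_mulVec]
  have hcomm : C * aeval A q = aeval A q * C :=
    (Algebra.commute_of_mem_adjoin_singleton_of_commute (aeval_mem_adjoin_singleton F A) hC)
  rw [hcomm, ← Matrix.mulVec_mulVec, ← hp, orbitMap_apply, Matrix.mulVec_mulVec, ← map_mul, mul_comm,
    map_mul, ← Matrix.mulVec_mulVec]

/-- Adjoints of polynomials in a symplectic matrix. -/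
theorem transpose_aeval_mul_J (x : symplecticGroup (Fin m) F) (p : F[X]) :
    (aeval x.1 p)ᵀ * J (Fin m) F = J (Fin m) F * aeval (x⁻¹).1 p := by
  have h1 : ∀ n : ℕ, (x.1 ^ n)ᵀ * J (Fin m) F = J (Fin m) F * (x⁻¹).1 ^ n := by
    intro n
    have h := SymplecticGroup.mem_iff'.1 (pow_mem x.2 n)
    have hx : x.1 ^ n * (x⁻¹).1 ^ n = 1 := by
      have := congrArg Subtype.val (show x ^ n * (x⁻¹) ^ n = 1 by rw [inv_pow, mul_inv_cancel])
      exact this
    calc (x.1 ^ n)ᵀ * J (Fin m) F = (x.1 ^ n)ᵀ * J (Fin m) F * (x.1 ^ n * (x⁻¹).1 ^ n) := by rw [hx, mul_one]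
      _ = J (Fin m) F * (x⁻¹).1 ^ n := by rw [← mul_assoc, h]
  induction p using Polynomial.induction_on' with
  | add p q hp hq => rw [map_add, map_add, Matrix.transpose_add, add_mul, mul_add, hp, hq]
  | monomial n c =>
    rw [aeval_monomial, aeval_monomial, ← Algebra.smul_def, ← Algebra.smul_def, Matrix.transpose_smul,
      Matrix.smul_mul, Matrix.mul_smul, h1]

end CfsgLib.SolvBlock
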