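import Cfsg.Agent.Lib.SolvBlock.Basic
import Cfsg.Agent.Lib.SolvBlock.SpCyclic
import Cfsg.Agent.Lib.Linear.SympSimple
import Cfsg.Agent.Lib.Linear.SympCard

/-!
# Class numbers of solvable subgroups of symplectic groups over prime fields
-/

set_option autoImplicit false
set_option linter.style.haveILetI false
set_option maxHeartbeats 1000000

namespace CfsgLib.SolvBlock

open Matrix Cfsg

universe u

theorem card_sp_le (r a : ℕ) [Fact r.Prime] :
    Nat.card (symplecticGroup (Fin a) (ZMod r)) ≤ r ^ (2 * a ^ 2 + a) := by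
  rw [CfsgLib.Linear.Symp.card_symplectic, ZMod.card]
  calc r ^ a ^ 2 * ∏ k ∈ Finset.range a, (r ^ (2 * (k + 1)) - 1)
      ≤ r ^ a ^ 2 * ∏ k ∈ Finset.range a, r ^ (2 * (k + 1)) :=
        Nat.mul_le_mul_left _ (Finset.prod_le_prod' fun k _ => Nat.sub_le _ _)
    _ = r ^ (2 * a ^ 2 + a) := by
        rw [Finset.prod_pow_eq_pow_sum, ← pow_add]
        congr 1
        induction a with
        | zero => simp
        | succ a ih =>
          rw [Finset.sum_range_succ]
          nlinarith [ih]

theorem three_pow_ge (a : ℕ) (ha : 4 ≤ a) : 2 * (2 * a ^ 2 + a) ≤ 3 ^ a - 1 := by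
  induction a, ha using Nat.le_induction with
  | base => norm_num
  | succ a ha ih =>
    have : 1 ≤ 3 ^ a := Nat.one_le_pow _ _ (by norm_num)
    rw [pow_succ 3 a]
    have h2 : 2 * (2 * (a + 1) ^ 2 + (a + 1)) ≤ 3 * (2 * (2 * a ^ 2 + a)) := by nlinarith
    omega

theorem two_pow_ge (a : ℕ) (ha : 6 ≤ a) : 2 * (2 * a ^ 2 + a) + 2 ≤ 3 * (2 ^ a - 1) := by
  induction a, ha using Nat.le_induction with
  | base => norm_num
  | succ a ha ih =>
    have : 1 ≤ 2 ^ a := Nat.one_le_pow _ _ (by norm_num)
    rw [pow_succ 2 a]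
    have h2 : 2 * (2 * (a + 1) ^ 2 + (a + 1)) + 2 ≤ 2 * (2 * (2 * a ^ 2 + a) + 2) := by nlinarith
    omega

theorem cube_le (n : ℕ) (hn : 7 ≤ n) : n ^ 3 ≤ 3 ^ (n - 1) := by
  induction n, hn using Nat.le_induction with
  | base => norm_num
  | succ n hn ih =>
    rw [show n + 1 - 1 = (n - 1) + 1 by omega, pow_succ 3 (n - 1)]
    have h1 : (n + 1) ^ 3 ≤ 3 * n ^ 3 := by nlinarith [Nat.mul_le_mul hn hn]
    omega

theorem le_three_pow (n : ℕ) (hn : 1 ≤ n) : n ≤ 3 ^ (n - 1) := by
  induction n, hn using Nat.le_induction with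
  | base => norm_num
  | succ n hn ih =>
    rw [show n + 1 - 1 = (n - 1) + 1 by omega, pow_succ 3 (n - 1)]
    omega

/-- The crude bound, outside a short list of parameters. -/
theorem pow_le_three_pow {r a : ℕ} (hr : r.Prime) (ha : 1 ≤ a) :
    r ^ (2 * a ^ 2 + a) ≤ 3 ^ (r ^ a - 1) ∨
      (a = 1 ∧ (r = 2 ∨ r = 3 ∨ r = 5)) ∨ (a = 2 ∧ (r = 2 ∨ r = 3)) ∨ (r = 2 ∧ (a = 3 ∨ a = 4 ∨ a = 5)) := by
  have h2 := hr.two_le
  rcases (show a = 1 ∨ a = 2 ∨ a = 3 ∨ 4 ≤ a by omega) with rfl | rfl | rfl | h4
  · by_cases h : 7 ≤ r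
    · left; simpa using cube_le r h
    · have h5 : r ≤ 6 := by omega
      interval_cases r <;> simp_all (config := { decide := true })
  · by_cases h : 11 ≤ r
    · left
      refine (Nat.pow_le_pow_left (le_three_pow r (by omega)) _).trans ?_
      rw [← pow_mul]
      refine Nat.pow_le_pow_right (by norm_num) ?_
      zify [show 1 ≤ r by omega, Nat.one_le_pow 2 r (by omega)]
      nlinarith
    · have h5 : r ≤ 10 := by omega
      interval_cases r <;> simp_all (config := { decide := true })
  · by_cases h : 5 ≤ r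
    · left
      refine (Nat.pow_le_pow_left (le_three_pow r (by omega)) _).trans ?_
      rw [← pow_mul]
      refine Nat.pow_le_pow_right (by norm_num) ?_
      zify [show 1 ≤ r by omega, Nat.one_le_pow 3 r (by omega)]
      nlinarith [mul_le_mul_of_nonneg_left (show (5 : ℤ) ≤ r by exact_mod_cast h) (show (0 : ℤ) ≤ (r : ℤ) by positivity)]
    · have h5 : r ≤ 4 := by omega
      interval_cases r <;> simp_all (config := { decide := true })
  · by_cases h : r = 2
    · subst h
      by_cases h6 : 6 ≤ a
      · left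
        set k := (2 * a ^ 2 + a + 2) / 3 with hk
        calc 2 ^ (2 * a ^ 2 + a) ≤ 2 ^ (3 * k) := Nat.pow_le_pow_right (by norm_num) (by omega)
          _ = 8 ^ k := by rw [pow_mul]; norm_num
          _ ≤ 9 ^ k := Nat.pow_le_pow_left (by norm_num) _
          _ = 3 ^ (2 * k) := by rw [pow_mul]; norm_num
          _ ≤ 3 ^ (2 ^ a - 1) := Nat.pow_le_pow_right (by norm_num) (by have := two_pow_ge a h6; omega)
      · right; right; right; exact ⟨rfl, by omega⟩
    · left
      refine (Nat.pow_le_pow_left (le_three_pow r (by omega)) _).trans ?_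
      rw [← pow_mul]
      refine Nat.pow_le_pow_right (by norm_num) ?_
      have hg := Nat.geomSum_eq h2 a
      have hdvd : (r - 1) ∣ r ^ a - 1 := by simpa using Nat.sub_dvd_pow_sub_pow r 1 a
      have hsum : (∑ k ∈ Finset.range a, 3 ^ k) ≤ ∑ k ∈ Finset.range a, r ^ k :=
        Finset.sum_le_sum fun k _ => Nat.pow_le_pow_left (by omega) k
      rw [hg, Nat.geomSum_eq (by norm_num : 2 ≤ 3) a] at hsum
      have h3 := three_pow_ge a h4
      have h5 : 2 * a ^ 2 + a ≤ (r ^ a - 1) / (r - 1) := by
        refine le_trans ?_ hsum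
        rw [Nat.le_div_iff_mul_le (by norm_num)]
        omega
      calc (r - 1) * (2 * a ^ 2 + a) ≤ (r - 1) * ((r ^ a - 1) / (r - 1)) := Nat.mul_le_mul_left _ h5
        _ = r ^ a - 1 := Nat.mul_div_cancel' hdvd

theorem classNum_sp_one_three :
    Nat.card (ConjClasses (symplecticGroup (Fin 1) (ZMod 3))) *
      Nat.card (symplecticGroup (Fin 1) (ZMod 3)) = 168 := by
  classical
  letI : DecidablePred (· ∈ symplecticGroup (Fin 1) (ZMod 3)) := fun _ =>
    decidable_of_iff _ (SymplecticGroup.mem_iff).symm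
  letI : Fintype (symplecticGroup (Fin 1) (ZMod 3)) := Subtype.fintype _
  rw [← card_comm_eq_card_conjClasses_mul_card,
    Nat.subtype_card (Finset.univ.filter fun p : symplecticGroup (Fin 1) (ZMod 3) ×
      symplecticGroup (Fin 1) (ZMod 3) => p.1.1 * p.2.1 = p.2.1 * p.1.1)]
  · decide +kernel
  · intro x
    simp only [Finset.mem_filter, Finset.mem_univ, true_and]
    exact ⟨fun h => Subtype.ext h, fun h => congrArg Subtype.val h⟩

variable {r a : ℕ} [hr : Fact r.Prime] {H : Type u} [Group H] [Finite H]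
  (f : H →* symplecticGroup (Fin a) (ZMod r))

/-- A `p`-subgroup without fixed vectors on an invariant subspace. -/
theorem modEq_of_no_fixed {q : ℕ} [Fact q.Prime] (P : Subgroup H) (hP : IsPGroup q P)
    (W : Submodule (ZMod r) (Fin a ⊕ Fin a → ZMod r)) (hWinv : ∀ h ∈ P, ∀ w ∈ W, (f h).1 *ᵥ w ∈ W)
    (hfix : ∀ w ∈ W, (∀ h ∈ P, (f h).1 *ᵥ w = w) → w = 0) :
    r ^ Module.finrank (ZMod r) W ≡ 1 [MOD q] := by
  letI : MulAction P W :=
    { smul := fun h w => ⟨(f h).1 *ᵥ w, hWinv h h.2 w w.2⟩
      one_smul := fun w => Subtype.ext (show (f ((1 : P) : H)).1 *ᵥ (w : Fin a ⊕ Fin a → ZMod r) = w by simp)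
      mul_smul := fun g h w => Subtype.ext (show (f ((g * h : P) : H)).1 *ᵥ (w : Fin a ⊕ Fin a → ZMod r) =
        (f g).1 *ᵥ ((f h).1 *ᵥ w) by simp [Matrix.mulVec_mulVec]) }
  have h := hP.card_modEq_card_fixedPoints W
  have h1 : Nat.card (MulAction.fixedPoints P W) = 1 := by
    rw [Nat.card_eq_one_iff_exists]
    refine ⟨⟨0, fun h => Subtype.ext (Matrix.mulVec_zero (f (h : H)).1)⟩, fun ⟨w, hw⟩ => Subtype.ext (Subtype.ext ?_)⟩
    exact hfix w w.2 fun g hg => congrArg Subtype.val (hw ⟨g, hg⟩)
  rw [h1, Module.natCard_eq_pow_finrank (K := ZMod r), Nat.card_zmod] at h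
  exact h

variable (hf : Function.Injective f)
  (hfix : ∀ q, q.Prime → pCore q H ≠ ⊥ → ∀ v, (∀ h ∈ pCore q H, (f h).1 *ᵥ v = v) → v = 0)
include hfix

theorem dvd_of_core {q : ℕ} (hq : q.Prime) (hne : pCore q H ≠ ⊥) : q ∣ r ^ (2 * a) - 1 := by
  haveI := Fact.mk hq
  have h := modEq_of_no_fixed f (pCore q H) (CfsgLib.Solvable.pCore_isPGroup q H) ⊤
    (fun _ _ _ _ => Submodule.mem_top) fun w _ => hfix q hq hne w
  rw [finrank_top, CfsgLib.SympGeom.finrank_space] at h
  exact (Nat.modEq_iff_dvd' (Nat.one_le_pow _ _ hr.out.pos)).1 h.symm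

include hf in
/-- A core of prime order with few invariant subspaces: its centralizer is commutative and small. -/
theorem centralizer_core {q : ℕ} [hq : Fact q.Prime] (ha : 1 ≤ a) (hq2 : q ≠ 2)
    (hsq : ¬ q ^ 2 ∣ Nat.card (symplecticGroup (Fin a) (ZMod r))) (hne : pCore q H ≠ ⊥)
    (hdims : ∀ i, i ≤ 2 * a → r ^ i ≡ 1 [MOD q] → i = 0 ∨ i = 2 * a ∨ (Odd a ∧ i = a)) :
    Nat.card H ≤ Nat.card (Subgroup.centralizer (pCore q H : Set H)) * (q - 1) ∧
    Nat.card (Subgroup.centralizer (pCore q H : Set H)) ≤ r ^ (2 * a) - 1 ∧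
    ∃ g : H, orderOf g = q ∧ ∀ c ∈ Subgroup.centralizer (pCore q H : Set H),
      ∃ p : Polynomial (ZMod r), (f c).1 = Polynomial.aeval (f g).1 p := by
  classical
  set P := pCore q H with hP
  haveI : P.Normal := CfsgLib.Solvable.pCore_normal q H
  set C := Subgroup.centralizer (P : Set H)
  obtain ⟨k, hk⟩ := CfsgLib.Solvable.card_pCore (p := q) (G := H)
  have hPq : Nat.card P = q := by
    have h1 : q ^ k ∣ Nat.card (symplecticGroup (Fin a) (ZMod r)) :=
      hk ▸ (Subgroup.card_subgroup_dvd_card P).trans (Subgroup.card_dvd_of_injective f hf)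
    rcases (show k = 0 ∨ k = 1 ∨ 2 ≤ k by omega) with rfl | rfl | h
    · exact absurd (Subgroup.card_eq_one.1 (by simpa using hk)) hne
    · simpa using hk
    · exact absurd ((pow_dvd_pow q h).trans h1) hsq
  obtain ⟨g, hgP, hg1⟩ : ∃ g ∈ P, g ≠ 1 := by
    by_contra! h
    exact hne ((Subgroup.eq_bot_iff_forall P).2 h)
  have hord : orderOf g = q := orderOf_eq_prime (by
    rw [← hPq]; exact congrArg Subtype.val (pow_card_eq_one' (x := (⟨g, hgP⟩ : P)))) hg1
  have hgen : P = Subgroup.zpowers g := by
    refine (Subgroup.eq_of_le_of_card_ge ((Subgroup.zpowers_le).2 hgP) ?_).symm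
    rw [Nat.card_zpowers, hord, hPq]
  have hfixg : ∀ v, (f g).1 *ᵥ v = v → v = 0 := by
    intro v hv
    let S : Subgroup H :=
      { carrier := {h | (f h).1 *ᵥ v = v}
        one_mem' := by simp
        mul_mem' := fun {x y} hx hy => by
          show (f (x * y)).1 *ᵥ v = v
          rw [map_mul, Submonoid.coe_mul, ← Matrix.mulVec_mulVec, hy, hx]
        inv_mem' := fun {x} hx => by
          show (f x⁻¹).1 *ᵥ v = v
          conv_lhs => rw [← hx]
          rw [Matrix.mulVec_mulVec, ← Submonoid.coe_mul, ← map_mul, inv_mul_cancel, map_one,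
            Submonoid.coe_one, Matrix.one_mulVec] }
    exact hfix q hq.out hne v fun h hh => (Subgroup.zpowers_le.2 (show g ∈ S from hv)) (hgen ▸ hh)
  have hW : ∀ W : Submodule (ZMod r) (Fin a ⊕ Fin a → ZMod r), (∀ w ∈ W, (f g).1 *ᵥ w ∈ W) →
      W = ⊥ ∨ W = ⊤ ∨ (Odd a ∧ Module.finrank (ZMod r) W = a) := by
    intro W hinv
    have hinv' : ∀ h ∈ P, ∀ w ∈ W, (f h).1 *ᵥ w ∈ W := by
      intro h hh
      obtain ⟨n, rfl⟩ := ((isOfFinOrder_of_finite g).mem_powers_iff_mem_zpowers).2 (hgen ▸ hh)
      induction n with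
      | zero => simp
      | succ n ih =>
        intro w hw
        show (f (g ^ (n + 1))).1 *ᵥ w ∈ W
        rw [pow_succ, map_mul, Submonoid.coe_mul, ← Matrix.mulVec_mulVec]
        exact ih (hgen ▸ Subgroup.npow_mem_zpowers g n) _ (hinv w hw)
    have h := modEq_of_no_fixed f P (CfsgLib.Solvable.pCore_isPGroup q H) W hinv'
      fun w _ hw => hfixg w (hw g hgP)
    have hle : Module.finrank (ZMod r) W ≤ 2 * a := by
      rw [← CfsgLib.SympGeom.finrank_space (F := ZMod r) (m := a)]; exact Submodule.finrank_le W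
    rcases hdims _ hle h with h0 | h0 | h0
    · exact Or.inl (Submodule.finrank_eq_zero.1 h0)
    · exact Or.inr (Or.inl (Submodule.eq_top_of_finrank_eq (by rw [h0, CfsgLib.SympGeom.finrank_space])))
    · exact Or.inr (Or.inr h0)
  have hx2 : f g * f g ≠ 1 := by
    rw [← map_mul, ← map_one f]
    intro h
    have h2 : g ^ 2 = 1 := by rw [pow_two]; exact hf h
    have : q ∣ 2 := hord ▸ orderOf_dvd_of_pow_eq_one h2
    exact hq2 ((Nat.prime_dvd_prime_iff_eq hq.out Nat.prime_two).1 this)
  obtain ⟨u, hu⟩ := exists_cyclic_vector ha (f g) hW hx2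
  have hpol : ∀ c ∈ C, ∃ p : Polynomial (ZMod r), (f c).1 = Polynomial.aeval (f g).1 p := by
    intro c hc
    refine exists_eq_aeval _ _ ?_ u hu
    rw [← Submonoid.coe_mul, ← Submonoid.coe_mul, ← map_mul, ← map_mul,
      Subgroup.mem_centralizer_iff.1 hc g hgP]
  refine ⟨?_, ?_, g, hord, hpol⟩
  · rw [← Subgroup.card_mul_index C]
    refine Nat.mul_le_mul_left _ ?_
    haveI : IsCyclic P := isCyclic_of_prime_card hPq
    have hker : (MulAut.conjNormal (H := P)).ker ≤ C := fun h hh => by
      rw [Subgroup.mem_centralizer_iff]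
      intro y hy
      have := congrArg (fun φ : MulAut P => ((φ ⟨y, hy⟩ : P) : H)) hh
      simp only [MulAut.conjNormal_apply, MulAut.one_apply] at this
      exact (mul_inv_eq_iff_eq_mul.1 this).symm
    refine (Nat.le_of_dvd (Nat.pos_of_ne_zero Subgroup.index_ne_zero_of_finite)
      (Subgroup.index_dvd_of_le hker)).trans ?_
    rw [Subgroup.index_ker]
    refine (Subgroup.card_le_card_group _).trans (le_of_eq ?_)
    rw [Nat.card_congr (IsCyclic.mulAutMulEquiv P).toEquiv, Nat.card_eq_fintype_card (α := (ZMod _)ˣ),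
      ZMod.card_units_eq_totient, hPq, Nat.totient_prime hq.out]
  · have hu0 : u ≠ 0 := by
      rintro rfl
      have h0 : LinearMap.range (orbitMap (f g).1 (0 : Fin a ⊕ Fin a → ZMod r)) = ⊥ :=
        LinearMap.range_eq_bot.2 (LinearMap.ext fun p => by simp [orbitMap_apply])
      have h1 : Module.finrank (ZMod r) (Fin a ⊕ Fin a → ZMod r) = 0 := by
        rw [← finrank_top (R := ZMod r), ← hu, h0, finrank_bot]
      rw [CfsgLib.SympGeom.finrank_space] at h1
      omega
    have hinj : Function.Injective (fun c : C => (⟨(f c).1 *ᵥ u, fun h => hu0 (by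
        have := congrArg (fun v => (f (c : H))⁻¹.1 *ᵥ v) h
        simpa [Matrix.mulVec_mulVec, show (f (c : H))⁻¹.1 * (f c).1 = 1 from
          congrArg Subtype.val (inv_mul_cancel (f (c : H)))] using this)⟩ : {v // v ≠ (0 : Fin a ⊕ Fin a → ZMod r)})) := by
      intro c d h
      obtain ⟨p, hp⟩ := hpol c c.2
      obtain ⟨p', hp'⟩ := hpol d d.2
      have h' : Polynomial.aeval (f g).1 p *ᵥ u = Polynomial.aeval (f g).1 p' *ᵥ u := by
        rw [← hp, ← hp']; exact congrArg Subtype.val h
      refine Subtype.ext (hf (Subtype.ext (Matrix.ext_of_mulVec_single fun i => ?_)))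
      obtain ⟨s, hs⟩ : (Pi.single i (1 : ZMod r) : Fin a ⊕ Fin a → ZMod r) ∈
        LinearMap.range (orbitMap (f g).1 u) := hu ▸ Submodule.mem_top
      rw [← hs, orbitMap_apply, hp, hp', Matrix.mulVec_mulVec, Matrix.mulVec_mulVec, ← map_mul, ← map_mul,
        mul_comm p s, mul_comm p' s, map_mul, map_mul, ← Matrix.mulVec_mulVec, ← Matrix.mulVec_mulVec, h']
    refine (Nat.card_le_card_of_injective _ hinj).trans (le_of_eq ?_)
    classical
    rw [Nat.card_eq_fintype_card, Fintype.card_subtype_compl, Fintype.card_subtype_eq, Fintype.card_fun,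
      Fintype.card_sum, Fintype.card_fin, ZMod.card, ← two_mul]


omit hfix in
include hf in
theorem card_dvd_sp : Nat.card H ∣ Nat.card (symplecticGroup (Fin a) (ZMod r)) :=
  Subgroup.card_dvd_of_injective f hf

omit hfix in
include hf in
theorem factorization_le {q e : ℕ} (hq : q.Prime)
    (h : ¬ q ^ (e + 1) ∣ Nat.card (symplecticGroup (Fin a) (ZMod r))) :
    (Nat.card H).factorization q ≤ e := by
  by_contra! hlt
  exact h (((pow_dvd_pow q hlt).trans (Nat.ordProj_dvd _ _)).trans (card_dvd_sp f hf))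

omit hfix in
include hf in
/-- A solvable subgroup of a perfect group is proper. -/
theorem card_lt_of_perfect [Group.IsSolvable H] (ha : 1 ≤ a)
    (hperf : commutator (symplecticGroup (Fin a) (ZMod r)) = ⊤) :
    Nat.card H < Nat.card (symplecticGroup (Fin a) (ZMod r)) := by
  refine lt_of_le_of_ne (Nat.le_of_dvd Nat.card_pos (card_dvd_sp f hf)) fun h => ?_
  have hsurj : Function.Surjective f :=
    ((Nat.bijective_iff_injective_and_card f).2 ⟨hf, h⟩).2
  haveI : Group.IsSolvable (symplecticGroup (Fin a) (ZMod r)) := Group.isSolvable_of_surjective hsurj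
  haveI : Nontrivial (symplecticGroup (Fin a) (ZMod r)) := by
    rw [← Finite.one_lt_card_iff_nontrivial, CfsgLib.Linear.Symp.card_symplectic, ZMod.card]
    have h1 : 1 < r ^ a ^ 2 := Nat.one_lt_pow (by positivity) hr.out.one_lt
    refine lt_of_lt_of_le h1 (Nat.le_mul_of_pos_right _ (Finset.prod_pos fun k _ => ?_))
    have : 1 < r ^ (2 * (k + 1)) := Nat.one_lt_pow (by omega) hr.out.one_lt
    omega
  exact (Group.IsSolvable.commutator_lt_top_of_nontrivial (symplecticGroup (Fin a) (ZMod r))).ne hperf

omit hfix in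
include hf in
theorem index_ge_eight [Group.IsSolvable H] (hr3 : r = 3) (ha2 : a = 2) :
    Nat.card H ≤ 6480 := by
  subst hr3; subst ha2
  have h3 : (2 : ℕ) = 2 ∧ 3 ≤ Fintype.card (ZMod 3) := ⟨rfl, by rw [ZMod.card]⟩
  have hlt := card_lt_of_perfect f hf (by norm_num) (CfsgLib.Linear.Symp.commutator_eq_top (Or.inr (Or.inl h3)))
  have hcard : Nat.card (symplecticGroup (Fin 2) (ZMod 3)) = 51840 := by
    rw [CfsgLib.Linear.Symp.card_symplectic, ZMod.card]; norm_num [Finset.prod_range_succ]
  set K := f.range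
  have hK : Nat.card K = Nat.card H := (Nat.card_congr (MonoidHom.ofInjective hf).toEquiv).symm
  have h1 := Subgroup.card_mul_index K
  rw [hcard, hK] at h1
  have hcore : K.normalCore ≤ Subgroup.center (symplecticGroup (Fin 2) (ZMod 3)) := by
    rcases CfsgLib.Linear.Symp.normal_le_center_or_eq_top (Or.inr (Or.inl h3)) K.normalCore with h | h
    · exact h
    · exfalso
      have : K = ⊤ := eq_top_iff.2 (h ▸ K.normalCore_le)
      rw [this, Subgroup.card_top] at hK
      omega
  have hZ : Nat.card (Subgroup.center (symplecticGroup (Fin 2) (ZMod 3))) = 2 := by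
    rw [CfsgLib.Linear.Symp.card_center (by norm_num), ZMod.card]; rfl
  have h2 : K.normalCore.index ≤ K.index.factorial := by
    rw [Subgroup.normalCore_eq_ker, Subgroup.index_ker]
    refine (Subgroup.card_le_card_group _).trans (le_of_eq ?_)
    rw [Nat.card_perm, ← Subgroup.index_eq_card]
  have h4 : 25920 ≤ K.normalCore.index := by
    have h5 := Subgroup.card_mul_index K.normalCore
    rw [hcard] at h5
    have h6 : Nat.card K.normalCore ≤ 2 := (Subgroup.card_le_of_le hcore).trans_eq hZ
    nlinarith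
  by_contra! hbig
  have h7 : K.index ≤ 7 := by
    by_contra! h
    nlinarith
  have h8 := Nat.factorial_le h7
  have h9 : Nat.factorial 7 = 5040 := rfl
  omega

/-- The bound for a solvable subgroup of a symplectic group without fixed points of its cores. -/
theorem classNum_sp_le (ha : 1 ≤ a) [Group.IsSolvable H] (hK : BdBelow.{u} (Nat.card H))
    (hf : Function.Injective f) :
    Nat.card (ConjClasses H) ≤ 3 ^ (r ^ a - 1) := by
  have hnc : ∀ q, q.Prime → pCore q H ≠ ⊥ → q ∣ r ^ (2 * a) - 1 := fun q hq hne =>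
    dvd_of_core f hfix hq hne
  have hdvd := card_dvd_sp f hf
  have hprod : ∀ l : List ℕ, (∀ q ∈ l, q.Prime) → (∀ q, q.Prime → pCore q H ≠ ⊥ → q ∈ l) →
      Nat.card (ConjClasses H) ≤ (l.map fun q => bd q ((Nat.card H).factorization q)).prod :=
    fun l h1 h2 => classNum_le_prod hK l h1 H inferInstance le_rfl h2
  rcases pow_le_three_pow hr.out ha with h | ⟨rfl, rfl | rfl | rfl⟩ | ⟨rfl, rfl | rfl⟩ | ⟨rfl, rfl | rfl | rfl⟩
  · exact ((classNum_le_card H).trans (Nat.le_of_dvd Nat.card_pos hdvd)).trans ((card_sp_le r a).trans h)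
  · have hcard : Nat.card (symplecticGroup (Fin 1) (ZMod 2)) = 6 := by
      rw [CfsgLib.Linear.Symp.card_symplectic, ZMod.card]; norm_num
    rw [hcard] at hdvd
    have hle := classNum_le_card H
    have hle6 := Nat.le_of_dvd (by norm_num) hdvd
    norm_num
    by_cases hc : ∀ x y : H, x * y = y * x
    · by_contra! h3
      have h6 : Nat.card H = 6 := by
        interval_cases hh : Nat.card H <;> omega
      haveI : Fact (Nat.Prime 2) := ⟨Nat.prime_two⟩
      obtain ⟨S⟩ : Nonempty (Sylow 2 H) := inferInstance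
      have hSn : (S : Subgroup H).Normal := ⟨fun x hx g => by rw [hc g x, mul_assoc, mul_inv_cancel, mul_one]; exact hx⟩
      have hne : pCore 2 H ≠ ⊥ := fun h0 => S.ne_bot_of_dvd_card (by omega)
        (eq_bot_iff.2 (h0 ▸ CfsgLib.Solvable.le_pCore hSn S.isPGroup'))
      exact absurd (hnc 2 Nat.prime_two hne) (by norm_num)
    · have h8 := eight_mul_classNum_le hc
      omega
  · have hcard : Nat.card (symplecticGroup (Fin 1) (ZMod 3)) = 24 := by
      rw [CfsgLib.Linear.Symp.card_symplectic, ZMod.card]; norm_num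
    rw [hcard] at hdvd
    have hle := classNum_le_card H
    have hle24 := Nat.le_of_dvd (by norm_num) hdvd
    norm_num
    by_contra! h9
    have h6 : Nat.card H = 12 ∨ Nat.card H = 24 := by
      interval_cases hh : Nat.card H <;> omega
    rcases h6 with h6 | h6
    · by_cases hc : ∀ x y : H, x * y = y * x
      · haveI : Fact (Nat.Prime 3) := ⟨Nat.prime_three⟩
        obtain ⟨S⟩ : Nonempty (Sylow 3 H) := inferInstance
        have hSn : (S : Subgroup H).Normal := ⟨fun x hx g => by rw [hc g x, mul_assoc, mul_inv_cancel, mul_one]; exact hx⟩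
        have hne : pCore 3 H ≠ ⊥ := fun h0 => S.ne_bot_of_dvd_card (by omega)
          (eq_bot_iff.2 (h0 ▸ CfsgLib.Solvable.le_pCore hSn S.isPGroup'))
        exact absurd (hnc 3 Nat.prime_three hne) (by norm_num)
      · have h8 := eight_mul_classNum_le hc
        omega
    · have hb : Function.Bijective f := (Nat.bijective_iff_injective_and_card f).2 ⟨hf, by rw [h6, hcard]⟩
      have h168 := classNum_sp_one_three
      rw [← classNum_equiv (MulEquiv.ofBijective f hb), hcard] at h168
      omega
  · have hcard : Nat.card (symplecticGroup (Fin 1) (ZMod 5)) = 120 := by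
      rw [CfsgLib.Linear.Symp.card_symplectic, ZMod.card]; norm_num
    have hlt := card_lt_of_perfect f hf le_rfl
      (CfsgLib.Linear.Symp.commutator_eq_top (Or.inr (Or.inr (by rw [ZMod.card]; norm_num))))
    rw [hcard] at hdvd hlt
    refine (classNum_le_card H).trans ?_
    obtain ⟨c, hc⟩ := hdvd
    have : 2 ≤ c := by
      rcases c with _ | _ | c <;> omega
    norm_num
    nlinarith
  · have hcard : Nat.card (symplecticGroup (Fin 2) (ZMod 2)) = 720 := by
      rw [CfsgLib.Linear.Symp.card_symplectic, ZMod.card]; norm_num [Finset.prod_range_succ]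
    norm_num
    haveI : Fact (Nat.Prime 5) := ⟨by norm_num⟩
    by_cases h5 : pCore 5 H = ⊥
    · refine (hprod [3] (by norm_num) fun q hq hne => ?_).trans ?_
      · have h15 : q ∣ 15 := by simpa using hnc q hq hne
        rcases (hq.dvd_mul.1 (show q ∣ 3 * 5 by norm_num; exact h15)) with h | h
        · simp [(Nat.prime_dvd_prime_iff_eq hq Nat.prime_three).1 h]
        · obtain rfl := (Nat.prime_dvd_prime_iff_eq hq (by norm_num : Nat.Prime 5)).1 h
          exact absurd h5 hne
      · have he := factorization_le f hf (e := 2) Nat.prime_three (by rw [hcard]; norm_num)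
        simp only [List.map_cons, List.map_nil, List.prod_cons, List.prod_nil, mul_one]
        exact (bd_mono (by norm_num) he).trans (by norm_num [bd])
    · obtain ⟨hH, hC, g, hg, hpol⟩ := centralizer_core f hf hfix ha (q := 5) (by norm_num)
        (by rw [hcard]; norm_num) h5 fun i hi h => by
          interval_cases i <;> simp_all (config := { decide := true }) [Nat.ModEq]
      set C := Subgroup.centralizer (pCore 5 H : Set H)
      have hexp : ∀ c ∈ C, c ^ 5 = 1 := by
        intro c hc
        obtain ⟨p, hp⟩ := hpol c hc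
        set A := (f g).1 with hA
        have hA5 : A ^ 5 = 1 := by
          rw [hA, ← SubmonoidClass.coe_pow, ← map_pow, ← hg, pow_orderOf_eq_one, map_one, Submonoid.coe_one]
        have hinv : ((f g)⁻¹).1 = A ^ 4 := by
          have h1 : (f g)⁻¹ = (f g) ^ 4 := by
            rw [inv_eq_iff_mul_eq_one, ← pow_succ', ← map_pow, show 4 + 1 = 5 from rfl, ← hg,
              pow_orderOf_eq_one, map_one]
          rw [h1, SubmonoidClass.coe_pow]
        have hfrob : Polynomial.aeval (A ^ 4) p = Polynomial.aeval A p ^ 4 := by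
          rw [← map_pow, show p ^ 4 = (p ^ 2) ^ 2 by rw [← pow_mul], ← ZMod.expand_card, ← ZMod.expand_card,
            Polynomial.expand_aeval, Polynomial.expand_aeval, ← pow_mul]
        have h1 := SymplecticGroup.mem_iff'.1 (f c).2
        rw [hp, transpose_aeval_mul_J, hinv, mul_assoc] at h1
        have h2 : Polynomial.aeval (A ^ 4) p * Polynomial.aeval A p = 1 := by
          have := congrArg (fun M => (Matrix.J (Fin 2) (ZMod 2))⁻¹ * M) h1
          have hdet : IsUnit (Matrix.J (Fin 2) (ZMod 2)).det := Matrix.isUnit_det_J _ _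
          simpa [← mul_assoc, Matrix.nonsing_inv_mul _ hdet] using this
        rw [hfrob, ← pow_succ, ← hp, ← SubmonoidClass.coe_pow, ← map_pow] at h2
        exact hf (Subtype.ext (by rw [map_one, Submonoid.coe_one]; exact h2))
      have hCp : IsPGroup 5 C := fun x => ⟨1, Subtype.ext (by rw [pow_one]; exact hexp x x.2)⟩
      obtain ⟨k, hk⟩ := IsPGroup.iff_card.1 hCp
      have hk1 : k ≤ 1 := by
        by_contra! h
        have : 25 ≤ 5 ^ k := le_trans (by norm_num) (Nat.pow_le_pow_right (by norm_num) h)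
        rw [hk] at hC
        norm_num at hC
        omega
      have : Nat.card C ≤ 5 := hk ▸ (Nat.pow_le_pow_right (by norm_num) hk1)
      have := classNum_le_card H
      omega
  · have := index_ge_eight f hf rfl rfl
    exact ((classNum_le_card H).trans this).trans (by norm_num)
  · have hcard : Nat.card (symplecticGroup (Fin 3) (ZMod 2)) = 1451520 := by
      rw [CfsgLib.Linear.Symp.card_symplectic, ZMod.card]; norm_num [Finset.prod_range_succ]
    norm_num
    haveI : Fact (Nat.Prime 7) := ⟨by norm_num⟩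
    by_cases h7 : pCore 7 H = ⊥
    · refine (hprod [3] (by norm_num) fun q hq hne => ?_).trans ?_
      · have h63 : q ∣ 63 := by simpa using hnc q hq hne
        rcases (hq.dvd_mul.1 (show q ∣ 3 ^ 2 * 7 by norm_num; exact h63)) with h | h
        · simp [(Nat.prime_dvd_prime_iff_eq hq Nat.prime_three).1 (hq.dvd_of_dvd_pow h)]
        · obtain rfl := (Nat.prime_dvd_prime_iff_eq hq (by norm_num : Nat.Prime 7)).1 h
          exact absurd h7 hne
      · have he := factorization_le f hf (e := 4) Nat.prime_three (by rw [hcard]; norm_num)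
        simp only [List.map_cons, List.map_nil, List.prod_cons, List.prod_nil, mul_one]
        exact (bd_mono (by norm_num) he).trans (by norm_num [bd])
    · obtain ⟨hH, hC, -⟩ := centralizer_core f hf hfix ha (q := 7) (by norm_num)
        (by rw [hcard]; norm_num) h7 fun i hi h => by
          interval_cases i <;> simp_all (config := { decide := true }) [Nat.ModEq]
      have := classNum_le_card H
      norm_num at hC
      omega
  · have hcard : Nat.card (symplecticGroup (Fin 4) (ZMod 2)) = 47377612800 := by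
      rw [CfsgLib.Linear.Symp.card_symplectic, ZMod.card]; norm_num [Finset.prod_range_succ]
    norm_num
    haveI : Fact (Nat.Prime 17) := ⟨by norm_num⟩
    by_cases h17 : pCore 17 H = ⊥
    · refine (hprod [3, 5] (by norm_num) fun q hq hne => ?_).trans ?_
      · have h255 : q ∣ 255 := by simpa using hnc q hq hne
        rcases (hq.dvd_mul.1 (show q ∣ 3 * 5 * 17 by norm_num; exact h255)) with h | h
        · rcases hq.dvd_mul.1 h with h | h
          · simp [(Nat.prime_dvd_prime_iff_eq hq Nat.prime_three).1 h]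
          · simp [(Nat.prime_dvd_prime_iff_eq hq (by norm_num : Nat.Prime 5)).1 h]
        · obtain rfl := (Nat.prime_dvd_prime_iff_eq hq (by norm_num : Nat.Prime 17)).1 h
          exact absurd h17 hne
      · have he := factorization_le f hf (e := 5) Nat.prime_three (by rw [hcard]; norm_num)
        have he5 := factorization_le f hf (e := 2) (q := 5) (by norm_num) (by rw [hcard]; norm_num)
        simp only [List.map_cons, List.map_nil, List.prod_cons, List.prod_nil, mul_one]
        exact (Nat.mul_le_mul (bd_mono (by norm_num) he) (bd_mono (by norm_num) he5)).trans (by norm_num [bd])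
    · obtain ⟨hH, hC, -⟩ := centralizer_core f hf hfix ha (q := 17) (by norm_num)
        (by rw [hcard]; norm_num) h17 fun i hi h => by
          interval_cases i <;> simp_all (config := { decide := true }) [Nat.ModEq]
      have := classNum_le_card H
      norm_num at hC
      omega
  · have hcard : Nat.card (symplecticGroup (Fin 5) (ZMod 2)) = 24815256521932800 := by
      rw [CfsgLib.Linear.Symp.card_symplectic, ZMod.card]; norm_num [Finset.prod_range_succ]
    norm_num
    refine (hprod [3, 11, 31] (by norm_num) fun q hq hne => ?_).trans ?_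
    · have h1023 : q ∣ 1023 := by simpa using hnc q hq hne
      rcases (hq.dvd_mul.1 (show q ∣ 3 * 11 * 31 by norm_num; exact h1023)) with h | h
      · rcases hq.dvd_mul.1 h with h | h
        · simp [(Nat.prime_dvd_prime_iff_eq hq Nat.prime_three).1 h]
        · simp [(Nat.prime_dvd_prime_iff_eq hq (by norm_num : Nat.Prime 11)).1 h]
      · simp [(Nat.prime_dvd_prime_iff_eq hq (by norm_num : Nat.Prime 31)).1 h]
    · have he := factorization_le f hf (e := 6) Nat.prime_three (by rw [hcard]; norm_num)
      have he1 := factorization_le f hf (e := 1) (q := 11) (by norm_num) (by rw [hcard]; norm_num)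
      have he2 := factorization_le f hf (e := 1) (q := 31) (by norm_num) (by rw [hcard]; norm_num)
      simp only [List.map_cons, List.map_nil, List.prod_cons, List.prod_nil, mul_one]
      exact (Nat.mul_le_mul (bd_mono (by norm_num) he) (Nat.mul_le_mul (bd_mono (by norm_num) he1)
        (bd_mono (by norm_num) he2))).trans (by norm_num [bd])

end CfsgLib.SolvBlock
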